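import Cfsg.Agent.Lib.CoxTorus.Weyl
import Cfsg.Agent.Lib.F4Graph.Weyl
import Cfsg.Agent.Lib.Lie.OrderD4
import Cfsg.Agent.Lib.Lie.TwD4

/-! Certificates in the Weyl group of D4 for the triality-twisted groups. -/

set_option autoImplicit false
set_option maxRecDepth 20000
set_option maxHeartbeats 4000000

namespace Cfsg.Agent.AltAuto.D4

open Cfsg.Agent.Chev Cfsg.Agent.Chev.Tab Cfsg.Agent.CoxTorus

local notation "T4" => D4Data.tab

theorem good4 : (T4).Good := TwD4.g0

theorem tab_facts : (T4).n = 24 ∧ (T4).l = 4 ∧ (T4).smp 0 = 18 ∧ (T4).smp 1 = 14 ∧ (T4).smp 2 = 13 ∧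
    (T4).smp 3 = 12 := by decide +kernel

/-- The words of the elements of the Weyl group. -/
def allWords : List (List ℕ) :=
  D4Data.reps3.flatMap fun d => D4Data.reps2.flatMap fun c => D4Data.reps1.flatMap fun b =>
    D4Data.reps0.map fun a => ((a.word ++ b.word) ++ c.word) ++ d.word

theorem exists_word_eq {L : List ℕ} (hL : (T4).Wd L) :
    ∃ L₀ ∈ allWords, (T4).Wd L₀ ∧ pL good4 L = pL good4 L₀ := by
  have hl := tab_facts.2.1
  have hJ : ∀ i ∈ L, i ∈ [3, 1, 2, 0] := fun i hi => by
    have : i < 4 := hl ▸ hL i hi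
    interval_cases i <;> simp
  obtain ⟨u3, h3, w3, d, hd, wd', e3⟩ := F4Graph.step_words good4 D4Data.step3 L hJ
  obtain ⟨u2, h2, w2, c, hc, wc, e2⟩ := F4Graph.step_words good4 D4Data.step2 u3 h3
  obtain ⟨u1, h1, w1, b, hb, wb, e1⟩ := F4Graph.step_words good4 D4Data.step1 u2 h2
  obtain ⟨u0, h0, w0, a, ha, wa, e0⟩ := F4Graph.step_words good4 D4Data.step0 u1 h1
  obtain rfl : u0 = [] := List.eq_nil_iff_forall_not_mem.2 fun i hi => List.not_mem_nil (h0 i hi)
  refine ⟨((a.word ++ b.word) ++ c.word) ++ d.word, ?_,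
    Wd.append_iff.2 ⟨Wd.append_iff.2 ⟨Wd.append_iff.2 ⟨wa, wb⟩, wc⟩, wd'⟩, ?_⟩
  · simp only [allWords, List.mem_flatMap, List.mem_map]
    exact ⟨d, hd, c, hc, b, hb, a, ha, rfl⟩
  · rw [e3, pL_append _ u3, e2, pL_append _ u2, e1, pL_append _ u1, e0, List.nil_append,
      ← pL_append, ← pL_append, ← pL_append]

/-- A twice inverse Cartan matrix. -/
def dual2 : List (List ℤ) := [[2, 2, 1, 1], [2, 4, 2, 2], [1, 2, 2, 1], [1, 2, 1, 2]]

/-- Coefficient of a root at a fundamental root. -/
def coef (s i : ℕ) : ℤ :=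
  sumBelow (fun k => (T4).A k s * (dual2.getD k []).getD i 0) 4 / 2

theorem coef_spec : ∀ s < 24, ∀ j < 4,
    (T4).A j s = sumBelow (fun i => coef s i * (T4).A j ((T4).smp i)) 4 := by
  decide +kernel

variable {E : Type*} [Field E]

/-- All weights from the fundamental ones. -/
theorem wt_eq_coef (c : ℕ → Eˣ) {s : ℕ} (hs : s < 24) :
    wt T4 E c s = ∏ i ∈ Finset.range 4, wt T4 E c ((T4).smp i) ^ coef s i := by
  simp only [wt_eq_chi]
  rw [← Finset.prod_congr rfl fun i _ => chi_smul _ (coef s i) _, ← chi_sum]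
  congr 1
  funext j
  have hj : (j : ℕ) < 4 := tab_facts.2.1 ▸ j.2
  simp only [Finset.sum_apply, Pi.smul_apply, avec, smul_eq_mul]
  rw [coef_spec s hs j hj, sumBelow_eq_sum]

/-- The exponent at a root. -/
def val (m : ℕ) (u : List ℕ) (s : ℕ) : ℕ :=
  (sumBelow (fun i => coef s i * (u.getD i 0 : ℕ)) 4 % (m : ℤ)).toNat

theorem wt_val {m : ℕ} (hm : 0 < m) {u : List ℕ} {ζ : Eˣ} (hζ : ζ ^ m = 1) {c : ℕ → Eˣ}
    (hc : ∀ i < 4, wt T4 E c ((T4).smp i) = ζ ^ u.getD i 0) {s : ℕ} (hs : s < 24) :
    wt T4 E c s = ζ ^ val m u s := by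
  rw [wt_eq_coef c hs, Finset.prod_congr rfl fun i hi => by rw [hc i (Finset.mem_range.1 hi)]]
  have h : ∀ S : Finset ℕ, ∏ i ∈ S, (ζ ^ u.getD i 0) ^ coef s i = ζ ^ ∑ i ∈ S, coef s i * (u.getD i 0 : ℕ) := by
    intro S
    induction S using Finset.induction_on with
    | empty => simp
    | insert a S ha ih =>
      rw [Finset.prod_insert ha, Finset.sum_insert ha, _root_.zpow_add, ih, ← zpow_natCast,
        ← _root_.zpow_mul, mul_comm (↑(u.getD a 0) : ℤ)]
  rw [h, ← zpow_natCast, val, sumBelow_eq_sum,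
    Int.toNat_of_nonneg (Int.emod_nonneg _ (by exact_mod_cast hm.ne'))]
  exact zpow_eq_zpow_emod' _ (by exact_mod_cast hζ)

/-- Residues modulo five. -/
def res5 : List (List ℕ) :=
  (List.range 5).flatMap fun a => (List.range 5).flatMap fun b => (List.range 5).flatMap fun c =>
    (List.range 5).map fun d => [a, b, c, d]

/-- The images of the fundamental roots. -/
def keys : List (List ℕ) := allWords.map fun L => (List.range 4).map fun i => (T4).rw' L ((T4).smp i)

/-- Transported to twice itself. -/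
def double (u k : List ℕ) : Bool :=
  (List.range 4).all fun i => Nat.beq (2 * val 5 u (k.getD i 0) % 5) (u.getD i 0)

/-- Transported to its twist. -/
def twisted (u k : List ℕ) : Bool :=
  (List.range 4).all fun i => Nat.beq (val 5 u (D4Data.symA.π'.getD (k.getD i 0) 0)) (u.getD i 0)

theorem five_cert : res5.all (fun u => u.all (fun a => Nat.beq a 0) ||
    (!keys.any (double u) || !keys.any (twisted u))) = true := by
  decide +kernel

/-- The words commuting with the symmetry. -/
def w1Words : List (List ℕ) :=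
  [[], [1], [0, 2, 3], [1, 0, 2, 3], [0, 2, 3, 1], [1, 0, 2, 3, 1], [0, 2, 3, 1, 0, 2, 3],
    [1, 0, 2, 3, 1, 0, 2, 3], [0, 2, 3, 1, 0, 2, 3, 1], [1, 0, 2, 3, 1, 0, 2, 3, 1],
    [0, 2, 3, 1, 0, 2, 3, 1, 0, 2, 3], [1, 0, 2, 3, 1, 0, 2, 3, 1, 0, 2, 3]]

/-- The longest word. -/
def w0 : List ℕ := [1, 0, 2, 3, 1, 0, 2, 3, 1, 0, 2, 3]

theorem w0_neg : ∀ s < 24, (T4).rw' w0 s = (T4).neg s := by decide +kernel

/-- Commutation with the symmetry. -/
def commB (L : List ℕ) : Bool :=
  allBelow (fun s => Nat.beq ((T4).rw' L (D4Data.symA.π.getD s 0)) (D4Data.symA.π.getD ((T4).rw' L s) 0)) 24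

theorem w1_all : allWords.all (fun L => !commB L ||
    w1Words.any (fun M => listBeq ((T4).keyL L) ((T4).keyL M))) = true := by
  decide +kernel

theorem w1_comm : w1Words.all commB = true := by decide +kernel

theorem w1_inj : (List.range 12).all (fun i => (List.range 12).all fun j =>
    !listBeq ((T4).keyL (w1Words.getD i [])) ((T4).keyL (w1Words.getD j [])) || Nat.beq i j) = true := by
  decide +kernel

/-- Whether the word squares to the identity. -/
def invB (L : List ℕ) : Bool := listBeq ((T4).keyL (L ++ L)) ((T4).keyL [])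

/-- Whether two words give the same element. -/
def sameB (L M : List ℕ) : Bool := listBeq ((T4).keyL L) ((T4).keyL M)

theorem four_cert : w1Words.all (fun L => w1Words.all fun M =>
    !(invB L && invB M && sameB (L ++ M) (M ++ L) && !sameB L M && !sameB L [] && !sameB M []) ||
      (sameB L w0 || sameB M w0 || sameB (L ++ M) w0)) = true := by
  decide +kernel

/-- Twist-invariant vectors modulo four. -/
def res4 : List (List ℕ) :=
  (List.range 4).flatMap fun a => (List.range 4).map fun b => [a, b, a, a]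

/-- Twist-invariant vectors killed by two. -/
def res2 : List (List ℕ) := [[0, 0, 0, 0], [2, 0, 2, 2], [0, 2, 0, 0], [2, 2, 2, 2]]

/-- The number of roots killed. -/
def kills (u : List ℕ) : ℕ := ((List.range 24).filter fun s => Nat.beq (val 4 u s) 0).length

/-- Sum modulo four. -/
def add4 (u v : List ℕ) : List ℕ := (List.range 4).map fun i => (u.getD i 0 + v.getD i 0) % 4

/-- Equality of vectors. -/
def eq4 (u v : List ℕ) : Bool := (List.range 4).all fun i => Nat.beq (u.getD i 0) (v.getD i 0)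

theorem kill_cert : res4.all (fun u => res2.all fun t =>
    eq4 t [0, 0, 0, 0] || (eq4 (add4 u u) t || (eq4 (add4 u u) [0, 0, 0, 0] ||
      !Nat.beq (kills u) (kills (add4 u t))))) = true := by
  decide +kernel

/-- A reflection does not centralise the two-torsion, and fixes at most one involution. -/
theorem move_cert : w1Words.all (fun L => sameB L [] || (sameB L w0 || (!invB L ||
    Nat.ble ((res2.filter fun t => (List.range 4).all fun i =>
      Nat.beq (val 4 t ((T4).rw' L ((T4).smp i))) (t.getD i 0)).length) 2))) = true := by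
  decide +kernel

end Cfsg.Agent.AltAuto.D4
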