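import Cfsg.Agent.Lib.AltAuto.Lift
import Mathlib.GroupTheory.Perm.Fin
import Mathlib.Tactic.NormNum.Prime
import Mathlib.Tactic.Ring

/-! No elementary group of order sixteen with its normaliser in `A₈`, over small two-groups. -/

set_option autoImplicit false
set_option maxRecDepth 20000

namespace Cfsg.Agent.AltAuto.Pair2

/-- An even permutation from two mutually inverse tables. -/
def ev (f f' : Fin 8 → Fin 8) (h : ∀ i, f' (f i) = i ∧ f (f' i) = i)
    (hs : Equiv.Perm.sign (⟨f, f', fun i => (h i).1, fun i => (h i).2⟩ : Equiv.Perm (Fin 8)) = 1) :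
    ↥(alternatingGroup (Fin 8)) :=
  ⟨⟨f, f', fun i => (h i).1, fun i => (h i).2⟩, Equiv.Perm.mem_alternatingGroup.2 hs⟩

/-- First generator of the first four-group. -/
def a1 : ↥(alternatingGroup (Fin 8)) :=
  ev ![1, 0, 3, 2, 4, 5, 6, 7] ![1, 0, 3, 2, 4, 5, 6, 7] (by decide) (by decide +kernel)

/-- Second generator of the first four-group. -/
def a2 : ↥(alternatingGroup (Fin 8)) :=
  ev ![2, 3, 0, 1, 4, 5, 6, 7] ![2, 3, 0, 1, 4, 5, 6, 7] (by decide) (by decide +kernel)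

/-- First generator of the second four-group. -/
def b1 : ↥(alternatingGroup (Fin 8)) :=
  ev ![0, 1, 2, 3, 5, 4, 7, 6] ![0, 1, 2, 3, 5, 4, 7, 6] (by decide) (by decide +kernel)

/-- Second generator of the second four-group. -/
def b2 : ↥(alternatingGroup (Fin 8)) :=
  ev ![0, 1, 2, 3, 6, 7, 4, 5] ![0, 1, 2, 3, 6, 7, 4, 5] (by decide) (by decide +kernel)

/-- A three-cycle on the first four points. -/
def c1 : ↥(alternatingGroup (Fin 8)) :=
  ev ![0, 2, 3, 1, 4, 5, 6, 7] ![0, 3, 1, 2, 4, 5, 6, 7] (by decide) (by decide +kernel)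

/-- A three-cycle on the last four points. -/
def c2 : ↥(alternatingGroup (Fin 8)) :=
  ev ![0, 1, 2, 3, 4, 6, 7, 5] ![0, 1, 2, 3, 4, 7, 5, 6] (by decide) (by decide +kernel)

/-- The exchange of the halves. -/
def sw : ↥(alternatingGroup (Fin 8)) :=
  ev ![4, 5, 6, 7, 0, 1, 2, 3] ![4, 5, 6, 7, 0, 1, 2, 3] (by decide) (by decide +kernel)

/-- The first four-group. -/
def va : Fin 4 → ↥(alternatingGroup (Fin 8)) := ![1, a1, a2, a1 * a2]

/-- The second four-group. -/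
def vb : Fin 4 → ↥(alternatingGroup (Fin 8)) := ![1, b1, b2, b1 * b2]

/-- The sixteen elements. -/
def el (v : Fin 4 × Fin 4) : ↥(alternatingGroup (Fin 8)) := va v.1 * vb v.2

/-- The multiplication table of a four-group. -/
def xor4 : Fin 4 → Fin 4 → Fin 4 := ![![0, 1, 2, 3], ![1, 0, 3, 2], ![2, 3, 0, 1], ![3, 2, 1, 0]]

theorem va_mul : ∀ i j, va i * va j = va (xor4 i j) := by decide +kernel

theorem vb_mul : ∀ i j, vb i * vb j = vb (xor4 i j) := by decide +kernel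

theorem va_vb : ∀ i j, va i * vb j = vb j * va i := by decide +kernel

theorem va_one : ∀ i, va i = 1 → i = 0 := by decide +kernel

theorem vb_one : ∀ i, vb i = 1 → i = 0 := by decide +kernel

theorem va_vb_ne : ∀ i j, va i = vb j → i = 0 := by decide +kernel

/-- Product of indices. -/
def mulI (v w : Fin 4 × Fin 4) : Fin 4 × Fin 4 := (xor4 v.1 w.1, xor4 v.2 w.2)

theorem el_zero : el (0, 0) = 1 := one_mul 1

theorem el_mul (v w : Fin 4 × Fin 4) : el v * el w = el (mulI v w) := by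
  unfold el mulI
  rw [mul_assoc (va v.1), ← mul_assoc (vb v.2), ← va_vb w.1 v.2, mul_assoc (va w.1), ← mul_assoc,
    va_mul, vb_mul]

theorem mulI_self : ∀ v, mulI v v = (0, 0) := by decide

theorem el_inv (v : Fin 4 × Fin 4) : el v * el v = 1 := by rw [el_mul, mulI_self, el_zero]

theorem el_inj : ∀ v w, el v = el w → v = w := by
  intro v w e
  have h : el (mulI v w) = 1 := by rw [← el_mul, e, el_inv]
  generalize hu : mulI v w = u at h
  have hb : va u.1 = vb u.2 := by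
    rw [el, mul_eq_one_iff_eq_inv] at h
    rw [h, inv_eq_of_mul_eq_one_right (by rw [vb_mul, show xor4 u.2 u.2 = 0 from congrArg Prod.snd (mulI_self u)]; rfl)]
  have h1 := va_vb_ne _ _ hb
  have h2 : u.2 = 0 := vb_one _ (by rw [← hb, h1]; rfl)
  have key : ∀ v w : Fin 4 × Fin 4, mulI v w = (0, 0) → v = w := by decide
  exact key v w (by rw [hu]; exact Prod.ext h1 h2)

/-- Cyclic move of the non-zero indices. -/
def rot : Fin 4 → Fin 4 := ![0, 2, 3, 1]

theorem c1_va : ∀ i, c1 * va i * c1⁻¹ = va (rot i) := by decide +kernel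

theorem c1_vb : ∀ i, c1 * vb i * c1⁻¹ = vb i := by decide +kernel

theorem c2_va : ∀ i, c2 * va i * c2⁻¹ = va i := by decide +kernel

theorem c2_vb : ∀ i, c2 * vb i * c2⁻¹ = vb (rot i) := by decide +kernel

theorem sw_va : ∀ i, sw * va i * sw⁻¹ = vb i := by decide +kernel

theorem sw_vb : ∀ i, sw * vb i * sw⁻¹ = va i := by decide +kernel

/-- The acting elements. -/
def hel (k : Fin 3 × Fin 3 × Fin 2) : ↥(alternatingGroup (Fin 8)) :=
  c1 ^ (k.1 : ℕ) * c2 ^ (k.2.1 : ℕ) * sw ^ (k.2.2 : ℕ)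

/-- Their action on indices. -/
def act (k : Fin 3 × Fin 3 × Fin 2) (v : Fin 4 × Fin 4) : Fin 4 × Fin 4 :=
  (fun v : Fin 4 × Fin 4 => (rot v.1, v.2))^[(k.1 : ℕ)]
    ((fun v : Fin 4 × Fin 4 => (v.1, rot v.2))^[(k.2.1 : ℕ)] (Prod.swap^[(k.2.2 : ℕ)] v))

theorem el_act {g : ↥(alternatingGroup (Fin 8))} {φ : Fin 4 × Fin 4 → Fin 4 × Fin 4}
    (h : ∀ v, g * el v * g⁻¹ = el (φ v)) : ∀ (n : ℕ) v, g ^ n * el v * (g ^ n)⁻¹ = el (φ^[n] v)
  | 0, v => by simp
  | n + 1, v => by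
    rw [Function.iterate_succ_apply', ← h, ← el_act h n v, pow_succ']
    group

theorem el_conj (k : Fin 3 × Fin 3 × Fin 2) (v : Fin 4 × Fin 4) :
    hel k * el v * (hel k)⁻¹ = el (act k v) := by
  have h1 : ∀ v, c1 * el v * c1⁻¹ = el (rot v.1, v.2) := fun v => by
    rw [el, ← conj_mul, c1_va, c1_vb]; rfl
  have h2 : ∀ v, c2 * el v * c2⁻¹ = el (v.1, rot v.2) := fun v => by
    rw [el, ← conj_mul, c2_va, c2_vb]; rfl
  have h3 : ∀ v, sw * el v * sw⁻¹ = el v.swap := fun v => by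
    rw [el, ← conj_mul, sw_va, sw_vb, ← va_vb]; rfl
  rw [act, ← el_act h1, ← el_act h2, ← el_act h3, hel]
  group

/-- The acting elements as a list. -/
def hs : List ↥(alternatingGroup (Fin 8)) :=
  ((List.finRange 3).flatMap fun i => (List.finRange 3).flatMap fun j =>
    (List.finRange 2).map fun l => ((i, j, l) : Fin 3 × Fin 3 × Fin 2)).map hel

theorem mem_hs {h : ↥(alternatingGroup (Fin 8))} : h ∈ hs ↔ ∃ k, hel k = h := by
  simp [hs]

theorem el_conj' : ∀ h ∈ hs, ∀ v, ∃ u, h * el v * h⁻¹ = el u := fun h hh v => by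
  obtain ⟨k, rfl⟩ := mem_hs.1 hh
  exact ⟨_, el_conj k v⟩

/-- Elements lying in one of the two factors. -/
def pure (v : Fin 4 × Fin 4) : Bool := (v.1 == 0) != (v.2 == 0)

theorem gen_idx : ∀ v : Fin 4 × Fin 4, v ≠ (0, 0) → ∃ k u, pure u = true ∧
    (u = v ∨ u = mulI v (act k v)) := by decide +kernel

theorem trans_idx : ∀ v w : Fin 4 × Fin 4, v ≠ (0, 0) → w ≠ (0, 0) → pure v = pure w →
    ∃ k, act k v = w := by decide +kernel

theorem gen_cert (v : Fin 4 × Fin 4) (hv : v ≠ (0, 0)) : ∃ h ∈ hs, ∃ u, pure u = true ∧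
    (el u = el v ∨ el u = el v * (h * el v * h⁻¹)) := by
  obtain ⟨k, u, hu, h⟩ := gen_idx v hv
  refine ⟨hel k, mem_hs.2 ⟨k, rfl⟩, u, hu, ?_⟩
  rcases h with rfl | rfl
  · exact Or.inl rfl
  · right; rw [el_conj, el_mul]

theorem trans_cert (v w : Fin 4 × Fin 4) (hv : v ≠ (0, 0)) (hw : w ≠ (0, 0)) (h : pure v = pure w) :
    ∃ g ∈ hs, g * el v * g⁻¹ = el w := by
  obtain ⟨k, hk⟩ := trans_idx v w hv hw h
  exact ⟨hel k, mem_hs.2 ⟨k, rfl⟩, by rw [el_conj, hk]⟩

theorem split_cert (v : Fin 4 × Fin 4) : el v = el (v.1, 0) * el (0, v.2) := by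
  show va v.1 * vb v.2 = va v.1 * 1 * (1 * vb v.2)
  rw [mul_one, one_mul]

theorem el_facts : el (1, 0) * el (2, 0) = el (3, 0) ∧ el (3, 0) * el (0, 1) = el (3, 1) ∧
    el (1, 0) * el (0, 1) = el (1, 1) ∧ el (2, 0) * el (0, 1) = el (2, 1) :=
  ⟨el_mul _ _, el_mul _ _, el_mul _ _, el_mul _ _⟩

/-- The group of order sixteen. -/
def V : Subgroup ↥(alternatingGroup (Fin 8)) where
  carrier := Set.range el
  one_mem' := ⟨(0, 0), el_zero⟩
  mul_mem' := by
    rintro _ _ ⟨v, rfl⟩ ⟨w, rfl⟩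
    exact ⟨_, (el_mul v w).symm⟩
  inv_mem' := by
    rintro _ ⟨v, rfl⟩
    exact ⟨v, eq_inv_of_mul_eq_one_left (el_inv v)⟩

theorem card_V : Nat.card V = 16 := by
  rw [← Nat.card_eq_of_bijective (fun v => (⟨el v, v, rfl⟩ : V))
    ⟨fun v w e => el_inj v w (congrArg Subtype.val e), fun x => by
      obtain ⟨v, hv⟩ := x.2
      exact ⟨v, Subtype.ext hv⟩⟩]
  simp

theorem V_square {w : ↥(alternatingGroup (Fin 8))} (h : w ∈ V) : w ^ 2 = 1 := by
  obtain ⟨v, rfl⟩ := h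
  rw [pow_two, el_inv]

theorem V_comm {v w : ↥(alternatingGroup (Fin 8))} (hv : v ∈ V) (hw : w ∈ V) : v * w = w * v := by
  have h1 := V_square (mul_mem hv hw)
  have h2 := V_square hv
  have h3 := V_square hw
  rw [pow_two] at h1 h2 h3
  have e1 : v * w = (v * w)⁻¹ := eq_inv_of_mul_eq_one_left h1
  rw [e1, mul_inv_rev, ← eq_inv_of_mul_eq_one_left h2, ← eq_inv_of_mul_eq_one_left h3]

/-- An invariant subgroup is everything. -/
theorem eq_V_of_invariant {S : Subgroup ↥(alternatingGroup (Fin 8))} (hSV : S ≤ V)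
    (hinv : ∀ h ∈ hs, ∀ w ∈ S, h * w * h⁻¹ ∈ S) {w₀ : ↥(alternatingGroup (Fin 8))} (hw₀ : w₀ ∈ S)
    (h1 : w₀ ≠ 1) : V ≤ S := by
  obtain ⟨v₀, rfl⟩ := hSV hw₀
  have hv₀ : v₀ ≠ (0, 0) := fun e => h1 (by rw [e, el_zero])
  obtain ⟨h, hh, u, hu, hu'⟩ := gen_cert v₀ hv₀
  have hu_mem : el u ∈ S := by
    rcases hu' with e | e <;> rw [e]
    · exact hw₀
    · exact mul_mem hw₀ (hinv h hh _ hw₀)
  have hu0 : u ≠ (0, 0) := fun e => by rw [e] at hu; exact absurd hu (by decide)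
  have hpure : ∀ v, v = (0, 0) ∨ pure v = true → el v ∈ S := by
    intro v hv
    rcases hv with rfl | hv
    · rw [el_zero]; exact one_mem _
    · have hv0 : v ≠ (0, 0) := fun e => by rw [e] at hv; exact absurd hv (by decide)
      obtain ⟨h', hh', e⟩ := trans_cert u v hu0 hv0 (hu.trans hv.symm)
      exact e ▸ hinv h' hh' _ hu_mem
  rintro _ ⟨v, rfl⟩
  rw [split_cert]
  exact mul_mem (hpure _ (by revert v; decide)) (hpure _ (by revert v; decide))

/-- The monomial structure of a two-group. -/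
structure Shape {Γ : Type*} [Group Γ] (κ : Γ → ℕ) (Q : Subgroup Γ) : Prop where
  exists_base : ∃ B : Subgroup Q,
    (∀ a ∈ B, ∀ b ∈ B, a * b = b * a) ∧ B.index ∣ 4 ∧
    Nat.card {b : B // b ^ 2 = 1} ≤ 4 ∧
    (B.index = 4 → ∃ n s : Q, (∀ b ∈ B, n * b * n⁻¹ = b⁻¹) ∧
      Nat.card {b : B // b ^ 2 = 1 ∧ s * (b : Q) = (b : Q) * s} ≤ 2) ∧
    ∀ a ∈ B, ∀ t ∈ B, a ^ 4 = 1 → a ^ 2 ≠ 1 → t ^ 2 = 1 → t ≠ 1 → t ≠ a ^ 2 →
      κ (a : Γ) ≠ κ ((a * t : Q) : Γ)

set_option maxHeartbeats 1600000 in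
/-- The obstruction. -/
theorem impossible {Γ : Type*} [Group Γ] [Finite Γ] {π : Γ →* ↥(alternatingGroup (Fin 8))}
    (hπ : Function.Surjective π) (κ : Γ → ℕ) (hκ : ∀ g x, κ (g * x * g⁻¹) = κ x)
    (hκ' : ∀ x, κ x⁻¹ = κ x)
    (hshape : ∀ Q : Subgroup Γ, IsPGroup 2 Q → Shape κ Q) : False := by
  classical
  haveI : Fact (Nat.Prime 2) := ⟨Nat.prime_two⟩
  set U := V.comap π with hU
  let P₀ : Sylow 2 U := default
  set Q := (P₀ : Subgroup U).map U.subtype with hQ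
  have hQ2 : IsPGroup 2 Q := P₀.isPGroup'.map _
  have hQU : Q ≤ U := by rintro _ ⟨v, -, rfl⟩; exact v.2
  -- the image of `Q`
  have hsurj : ∀ w ∈ V, ∃ x ∈ Q, π x = w := by
    let f : U →* V := (π.comp U.subtype).codRestrict V fun v => v.2
    have hf : Function.Surjective f := fun v => by
      obtain ⟨v', hv'⟩ := hπ v
      exact ⟨⟨v', show π v' ∈ V by rw [hv']; exact v.2⟩, Subtype.ext hv'⟩
    have htop : (P₀ : Subgroup U).map f = ⊤ := by
      have hpg : IsPGroup 2 V := IsPGroup.of_card (n := 4) (by rw [card_V]; norm_num)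
      have h := (P₀.mapSurjective hf).is_maximal' (Q := ⊤) (hpg.to_subgroup ⊤) le_top
      rw [Sylow.coe_mapSurjective] at h
      exact h.symm
    intro w hw
    obtain ⟨x, hx, e⟩ : (⟨w, hw⟩ : V) ∈ (P₀ : Subgroup U).map f := htop ▸ Subgroup.mem_top _
    exact ⟨x, ⟨x, hx, rfl⟩, congrArg Subtype.val e⟩
  -- normalising lifts
  have hlift : ∀ h ∈ hs, ∃ g, (∀ x ∈ Q, g * x * g⁻¹ ∈ Q) ∧ π g = h := by
    intro h hh
    obtain ⟨γ, hγ⟩ := hπ h
    have hn : ∀ w ∈ V, h * w * h⁻¹ ∈ V := by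
      rintro _ ⟨v, rfl⟩
      obtain ⟨u, hu⟩ := el_conj' h hh v
      exact ⟨u, hu.symm⟩
    obtain ⟨u, hu, hnorm⟩ := exists_adjust (x := γ) (U := U) (fun v hv => by
      rw [hU, Subgroup.mem_comap, map_mul, map_mul, map_inv, hγ]
      exact hn _ hv) P₀
    obtain ⟨x, hx, hxu⟩ := hsurj _ (inv_mem (show π u ∈ V from hu))
    refine ⟨x * (u * γ), fun y hy => ?_, ?_⟩
    · rw [show x * (u * γ) * y * (x * (u * γ))⁻¹ = x * (u * γ * y * (u * γ)⁻¹) * x⁻¹ by group]
      exact mul_mem (mul_mem hx (hnorm y hy)) (inv_mem hx)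
    · rw [map_mul, map_mul, hxu, hγ, inv_mul_cancel_left]
  obtain ⟨B, hBc, hidx, hB2, hns, hkill⟩ := (hshape Q hQ2).exists_base
  let πQ : Q →* V := (π.comp Q.subtype).codRestrict V fun x => hQU x.2
  have hπQ : Function.Surjective πQ := fun v => by
    obtain ⟨x, hx, e⟩ := hsurj v v.2
    exact ⟨⟨x, hx⟩, Subtype.ext e⟩
  set K0 := πQ.ker with hK0
  have hK0i : K0.index = 16 := by
    rw [hK0, Subgroup.index_ker, MonoidHom.range_eq_top.2 hπQ, Subgroup.card_top, card_V]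
  letI : CommGroup B :=
    { (inferInstance : Group B) with mul_comm := fun a b => Subtype.ext (hBc a a.2 b b.2) }
  let sq : B →* B := powMonoidHom 2
  set S := sq.range.map B.subtype with hS
  have hSK : S ≤ K0 := by
    rintro _ ⟨_, ⟨b, rfl⟩, rfl⟩
    rw [hK0, MonoidHom.mem_ker]
    refine Subtype.ext ?_
    show π (((b ^ 2 : B) : Q) : Γ) = 1
    rw [SubmonoidClass.coe_pow, SubmonoidClass.coe_pow, map_pow]
    exact V_square (hQU (b : Q).2)
  have hker : Nat.card sq.ker = Nat.card {b : B // b ^ 2 = 1} :=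
    Nat.card_congr (Equiv.subtypeEquivRight fun b => by simp [sq, MonoidHom.mem_ker])
  have hBS : Nat.card B = Nat.card {b : B // b ^ 2 = 1} * Nat.card S := by
    rw [← sq.ker.card_mul_index, Subgroup.index_ker, hker,
      Nat.card_congr (sq.range.equivMapOfInjective B.subtype B.subtype_injective).toEquiv]
  have hQ1 := B.card_mul_index
  have hQ2' := K0.card_mul_index
  rw [hK0i] at hQ2'
  have hSK' : Nat.card S ≤ Nat.card K0 := Subgroup.card_le_of_le hSK
  have hi4 : B.index ≤ 4 := Nat.le_of_dvd (by norm_num) hidx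
  have hSpos : 0 < Nat.card S := Nat.card_pos
  have hc2 : Nat.card {b : B // b ^ 2 = 1} = 4 ∧ B.index = 4 ∧ Nat.card S = Nat.card K0 := by
    have h16 : 16 * Nat.card K0 ≤ Nat.card {b : B // b ^ 2 = 1} * Nat.card S * B.index := by
      rw [← hBS, hQ1, ← hQ2', mul_comm]
    have h1 : Nat.card {b : B // b ^ 2 = 1} * Nat.card S * B.index ≤ 4 * Nat.card S * 4 :=
      Nat.mul_le_mul (Nat.mul_le_mul_right _ hB2) hi4
    have hSeq : Nat.card S = Nat.card K0 := by omega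
    rw [← hSeq] at h16
    have h2 : 16 ≤ Nat.card {b : B // b ^ 2 = 1} * B.index := by
      refine Nat.le_of_mul_le_mul_right (c := Nat.card S) ?_ hSpos
      rw [mul_right_comm]
      exact h16
    refine ⟨?_, ?_, hSeq⟩
    · by_contra hne
      have : Nat.card {b : B // b ^ 2 = 1} * B.index ≤ 3 * 4 := Nat.mul_le_mul (by omega) hi4
      omega
    · by_contra hne
      have : Nat.card {b : B // b ^ 2 = 1} * B.index ≤ 4 * 3 := Nat.mul_le_mul hB2 (by omega)
      omega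
  obtain ⟨hB4, hi, hSeq⟩ := hc2
  obtain ⟨n, s, hn, hs2⟩ := hns hi
  have hK0S : K0 = S := (Subgroup.eq_of_le_of_card_ge hSK hSeq.ge).symm
  have hK0B : K0 ≤ B := by rw [hK0S]; rintro _ ⟨b, -, rfl⟩; exact b.2
  -- conjugation by the lifts
  have hconj : ∀ g, (∀ x ∈ Q, g * x * g⁻¹ ∈ Q) → ∀ x ∈ K0, ∀ hx' : g * (x : Γ) * g⁻¹ ∈ Q,
      (⟨_, hx'⟩ : Q) ∈ K0 := by
    intro g _ x hx hx'
    rw [hK0, MonoidHom.mem_ker] at hx ⊢
    refine Subtype.ext ?_
    show π (g * (x : Γ) * g⁻¹) = 1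
    rw [map_mul, map_mul, map_inv, show π (x : Γ) = 1 from congrArg Subtype.val hx]
    group
  -- the centraliser of `K0`
  set D := Subgroup.centralizer (K0 : Set Q) with hD
  have hBD : B ≤ D := fun b hb => Subgroup.mem_centralizer_iff.2 fun x hx => hBc x (hK0B hx) b hb
  have hDV : V ≤ (D.map Q.subtype).map π := by
    obtain ⟨b, hbB, hbK⟩ : ∃ b ∈ B, b ∉ K0 := by
      by_contra hcon
      push_neg at hcon
      have hBK : B = K0 := le_antisymm hcon hK0B
      rw [hBK] at hi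
      omega
    refine eq_V_of_invariant ?_ ?_ (w₀ := π ((b : Q) : Γ)) ⟨_, ⟨b, hBD hbB, rfl⟩, rfl⟩
      (fun e => hbK (Subtype.ext e))
    · rintro _ ⟨_, ⟨x, -, rfl⟩, rfl⟩
      exact hQU x.2
    · rintro h hh _ ⟨_, ⟨x, hx, rfl⟩, rfl⟩
      obtain ⟨g, hg, hgh⟩ := hlift h hh
      refine ⟨g * (x : Γ) * g⁻¹, ⟨⟨_, hg _ x.2⟩, Subgroup.mem_centralizer_iff.2 fun y hy => ?_, rfl⟩,
        by rw [map_mul, map_mul, map_inv, hgh]; rfl⟩
      -- `g` permutes `K0`
      have hgi : g⁻¹ * (y : Γ) * g ∈ Q := by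
        have e : Q.map (MulAut.conj g).toMonoidHom = Q := by
          refine Subgroup.eq_of_le_of_card_ge ?_ (le_of_eq ?_)
          · rintro _ ⟨y', hy', rfl⟩; exact hg y' hy'
          · exact Nat.card_congr (Q.equivMapOfInjective _ (MulAut.conj g).injective).toEquiv
        have hyQ : (y : Γ) ∈ Q.map (MulAut.conj g).toMonoidHom := by
          rw [e]
          exact y.2
        obtain ⟨y', hy', e'⟩ := hyQ
        have e'' : g * y' * g⁻¹ = (y : Γ) := e'
        rw [← e'', show g⁻¹ * (g * y' * g⁻¹) * g = y' by group]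
        exact hy'
      have hyK : (⟨_, hgi⟩ : Q) ∈ K0 := by
        rw [hK0, MonoidHom.mem_ker]
        refine Subtype.ext ?_
        have hy1 : π (y : Γ) = 1 := congrArg Subtype.val (MonoidHom.mem_ker.1 (hy : y ∈ πQ.ker))
        show π (g⁻¹ * (y : Γ) * g) = 1
        rw [map_mul, map_mul, hy1, mul_one, map_inv, inv_mul_cancel]
      have hcom := congrArg (fun v : Q => g * (v : Γ) * g⁻¹) (Subgroup.mem_centralizer_iff.1 hx _ hyK)
      refine Subtype.ext ?_
      simp only [Subgroup.coe_mul] at hcom ⊢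
      rw [show g * (g⁻¹ * (y : Γ) * g * x) * g⁻¹ = (y : Γ) * (g * x * g⁻¹) by group,
        show g * ((x : Γ) * (g⁻¹ * y * g)) * g⁻¹ = g * x * g⁻¹ * y by group] at hcom
      exact hcom
  have hcentral : ∀ x ∈ K0, ∀ y : Q, x * y = y * x := by
    intro x hx y
    obtain ⟨_, ⟨d, hd, rfl⟩, he⟩ := hDV (hQU y.2)
    have hyd : d⁻¹ * y ∈ K0 := by
      rw [hK0, MonoidHom.mem_ker, map_mul, map_inv, inv_mul_eq_one]
      exact Subtype.ext he
    have : y ∈ D := by
      rw [show y = d * (d⁻¹ * y) by group]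
      exact mul_mem hd (hBD (hK0B hyd))
    exact Subgroup.mem_centralizer_iff.1 this x hx
  have hK2 : ∀ x ∈ K0, x ^ 2 = 1 := by
    intro x hx
    have h := hn x (hK0B hx)
    rw [← hcentral x hx n, mul_inv_cancel_right] at h
    rw [pow_two]
    nth_rw 2 [h]
    exact mul_inv_cancel x
  have hKle : Nat.card K0 ≤ 2 := by
    refine le_trans (Nat.card_le_card_of_injective
      (fun x : K0 => (⟨⟨x, hK0B x.2⟩, Subtype.ext (hK2 x x.2), (hcentral x x.2 s).symm⟩ :
        {b : B // b ^ 2 = 1 ∧ s * (b : Q) = (b : Q) * s})) fun u v e => ?_) hs2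
    exact Subtype.ext (Subtype.ext_iff.1 (Subtype.ext_iff.1 e) :)
  have hcard2 : Nat.card K0 = 2 := by
    have h1 : 1 ≤ Nat.card K0 := Nat.card_pos
    by_contra hne
    have hbot : K0 = ⊥ := Subgroup.card_eq_one.1 (by omega)
    -- then `Q` is commutative
    have hab : ∀ x y : Q, x * y = y * x := fun x y => by
      have hinj : Function.Injective πQ := (MonoidHom.ker_eq_bot_iff πQ).1 hbot
      refine hinj ?_
      rw [map_mul, map_mul]
      exact Subtype.ext (V_comm (πQ x).2 (πQ y).2)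
    have := le_trans (Nat.card_le_card_of_injective
      (fun b : {b : B // b ^ 2 = 1} =>
        (⟨b.1, b.2, hab _ _⟩ : {b : B // b ^ 2 = 1 ∧ s * (b : Q) = (b : Q) * s}))
      fun u v e => Subtype.ext (Subtype.ext_iff.1 e :)) hs2
    omega
  have hBcard : Nat.card B = 8 := by rw [hBS, hB4, hSeq, hcard2]
  have hkeq : ∀ x ∈ K0, ∀ y ∈ K0, x ≠ 1 → y ≠ 1 → x = y := by
    intro x hx y hy hx1 hy1
    have h := (Nat.card_eq_two_iff' (1 : K0)).1 hcard2
    exact congrArg Subtype.val (h.unique (y₁ := ⟨x, hx⟩) (y₂ := ⟨y, hy⟩)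
      (fun e => hx1 (congrArg Subtype.val e)) (fun e => hy1 (congrArg Subtype.val e)))
  -- squares
  have hsqK : ∀ x : Q, x ^ 2 ∈ K0 := fun x => by
    rw [hK0, MonoidHom.mem_ker, map_pow]
    exact Subtype.ext (V_square (hQU x.2))
  have hwd : ∀ x y : Q, π (x : Γ) = π (y : Γ) → x ^ 2 = y ^ 2 := by
    intro x y e
    have hk : y⁻¹ * x ∈ K0 := by
      rw [hK0, MonoidHom.mem_ker, map_mul, map_inv, inv_mul_eq_one]
      exact Subtype.ext e.symm
    rw [show x = y * (y⁻¹ * x) by group,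
      (show Commute y (y⁻¹ * x) from (hcentral _ hk y).symm).mul_pow, hK2 _ hk, mul_one]
  let P : Fin 4 × Fin 4 → Prop := fun v => ∃ x : Q, π (x : Γ) = el v ∧ x ^ 2 = 1
  have hP : ∀ (x : Q) v, π (x : Γ) = el v → (P v ↔ x ^ 2 = 1) := fun x v e =>
    ⟨fun ⟨y, hy, hy2⟩ => (hwd x y (e.trans hy.symm)).trans hy2, fun h => ⟨x, e, h⟩⟩
  have hPinv : ∀ v w, v ≠ (0, 0) → w ≠ (0, 0) → pure v = pure w → P v → P w := by
    intro v w hv hw hvw ⟨x, hx, hx2⟩
    obtain ⟨h, hh, e⟩ := trans_cert v w hv hw hvw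
    obtain ⟨g, hg, hgh⟩ := hlift h hh
    refine ⟨⟨_, hg _ x.2⟩, by rw [map_mul, map_mul, map_inv, hgh, hx, e], Subtype.ext ?_⟩
    rw [SubmonoidClass.coe_pow, conj_pow, ← SubmonoidClass.coe_pow, hx2]
    simp
  -- elements of `B`
  obtain ⟨a, haB, ha2⟩ : ∃ a ∈ B, a ^ 2 ≠ 1 := by
    by_contra hcon
    push_neg at hcon
    have : Nat.card B ≤ Nat.card {b : B // b ^ 2 = 1} :=
      Nat.card_le_card_of_injective (fun b => ⟨b, Subtype.ext (hcon b b.2)⟩)
        fun u v e => congrArg Subtype.val e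
    omega
  obtain ⟨t, htB, ht2, ht1, hta⟩ : ∃ t ∈ B, t ^ 2 = 1 ∧ t ≠ 1 ∧ t ≠ a ^ 2 := by
    by_contra hcon
    push_neg at hcon
    have : Nat.card {b : B // b ^ 2 = 1} ≤ Nat.card K0 :=
      Nat.card_le_card_of_injective (fun b => (⟨(b.1 : Q), by
        by_cases h : (b.1 : Q) = 1
        · rw [h]; exact one_mem _
        · rw [hcon _ b.1.2 (congrArg Subtype.val b.2) h]; exact hsqK a⟩ : K0))
        fun u v e => Subtype.ext (Subtype.ext (congrArg Subtype.val e :))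
    omega
  have ha4 : a ^ 4 = 1 := by rw [show 4 = 2 * 2 by norm_num, pow_mul]; exact hK2 _ (hsqK a)
  have htK : t ∉ K0 := fun h => hta (hkeq t h _ (hsqK a) ht1 ha2)
  have hat : (a * t) ^ 2 = a ^ 2 := by
    rw [(show Commute a t from hBc a haB t htB).mul_pow, ht2, mul_one]
  obtain ⟨va', hva⟩ := hQU a.2
  obtain ⟨vt, hvt⟩ := hQU t.2
  obtain ⟨vat, hvat⟩ := hQU (a * t).2
  have hne0 : ∀ (x : Q) v, π (x : Γ) = el v → x ∉ K0 → v ≠ (0, 0) := fun x v e hx h =>
    hx (Subtype.ext (show π (x : Γ) = 1 by rw [e, h, el_zero]))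
  have hva0 := hne0 a va' hva.symm fun h => ha2 (hK2 a h)
  have hvt0 := hne0 t vt hvt.symm htK
  have hvat0 := hne0 _ vat hvat.symm fun h => ha2 (hat ▸ hK2 _ h)
  have hPt : P vt := (hP t vt hvt.symm).2 ht2
  have hPa : ¬ P va' := fun h => ha2 ((hP a va' hva.symm).1 h)
  have hPat : ¬ P vat := fun h => ha2 (hat ▸ (hP _ vat hvat.symm).1 h)
  have hpa : pure va' ≠ pure vt := fun e => hPa (hPinv vt va' hvt0 hva0 e.symm hPt)
  have hpat : pure vat ≠ pure vt := fun e => hPat (hPinv vt vat hvt0 hvat0 e.symm hPt)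
  cases hvtp : pure vt with
  | true =>
    -- lifts of the factors are involutions
    have hpureP : ∀ v, pure v = true → P v := fun v hv =>
      hPinv vt v hvt0 (fun e => by rw [e] at hv; exact absurd hv (by decide)) (hvtp.trans hv.symm) hPt
    have hmixed : ∀ v, v ≠ (0, 0) → pure v = false → ¬ P v := fun v hv hv' h => by
      have : pure va' = false := by
        cases hq : pure va'
        · rfl
        · exact absurd (hq.trans hvtp.symm) hpa
      exact hPa (hPinv v va' hv hva0 (hv'.trans this.symm) h)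
    obtain ⟨x1, hx1, hx1s⟩ := hpureP (1, 0) (by decide)
    obtain ⟨x2, hx2, hx2s⟩ := hpureP (2, 0) (by decide)
    obtain ⟨y, hy, hys⟩ := hpureP (0, 1) (by decide)
    obtain ⟨e3, e31, e11, e21⟩ := el_facts
    have hmul : ∀ (u w : Q) vu vw vr, π (u : Γ) = el vu → π (w : Γ) = el vw → el vu * el vw = el vr →
        π ((u * w : Q) : Γ) = el vr := fun u w vu vw vr h1 h2 h3 => by
      rw [Subgroup.coe_mul, map_mul, h1, h2, h3]
    have hcom : ∀ (x : Q) vx vr, π (x : Γ) = el vx → el vx * el (0, 1) = el vr → x ^ 2 = 1 →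
        vr ≠ (0, 0) → pure vr = false → x * y * x⁻¹ = a ^ 2 * y := by
      intro x vx vr hx hr hxs hr0 hrp
      have h1 : (x * y) ^ 2 ≠ 1 := fun h => hmixed vr hr0 hrp
        ((hP _ vr (hmul x y vx (0, 1) vr hx hy hr)).2 h)
      have h2 : (x * y) ^ 2 = a ^ 2 := hkeq _ (hsqK _) _ (hsqK a) h1 ha2
      rw [← h2, pow_two]
      have hxi : x⁻¹ = x := inv_eq_of_mul_eq_one_right (by rw [← pow_two, hxs])
      have hyy : y * y = 1 := by rw [← pow_two, hys]
      rw [hxi, mul_assoc (x * y) (x * y) y, mul_assoc x y y, hyy, mul_one]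
    have c1 := hcom x1 (1, 0) (1, 1) hx1 e11 hx1s (by decide) (by decide)
    have c2 := hcom x2 (2, 0) (2, 1) hx2 e21 hx2s (by decide) (by decide)
    have h3 := hmul x1 x2 _ _ _ hx1 hx2 e3
    have hc12 : x1 * x2 * y = y * (x1 * x2) := by
      rw [← mul_inv_eq_iff_eq_mul, show x1 * x2 * y * (x1 * x2)⁻¹ = x1 * (x2 * y * x2⁻¹) * x1⁻¹ by group,
        c2, show x1 * (a ^ 2 * y) * x1⁻¹ = x1 * a ^ 2 * x1⁻¹ * (x1 * y * x1⁻¹) by group, c1,
        ← hcentral _ (hsqK a) x1, mul_inv_cancel_right, ← mul_assoc, ← pow_two, hK2 _ (hsqK a), one_mul]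
    have hs3 : (x1 * x2) ^ 2 = 1 := (hP _ (3, 0) h3).1 (hpureP _ (by decide))
    exact hmixed (3, 1) (by decide) (by decide) ((hP _ _ (hmul _ y _ _ _ h3 hy e31)).2
      (by rw [(show Commute (x1 * x2) y from hc12).mul_pow, hs3, hys, mul_one]))
  | false =>
    have hpe : pure va' = pure vat := by
      rw [hvtp] at hpa hpat
      revert hpa hpat
      cases pure va' <;> cases pure vat <;> simp
    obtain ⟨h, hh, e⟩ := trans_cert va' vat hva0 hvat0 hpe
    obtain ⟨g, hg, hgh⟩ := hlift h hh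
    set a' : Q := ⟨g * (a : Γ) * g⁻¹, hg _ a.2⟩
    have hk : (a * t)⁻¹ * a' ∈ K0 := by
      rw [hK0, MonoidHom.mem_ker, map_mul, map_inv, inv_mul_eq_one]
      refine Subtype.ext ?_
      show π ((a * t : Q) : Γ) = π (g * (a : Γ) * g⁻¹)
      rw [map_mul π _ g⁻¹, map_mul π g, map_inv, hgh, ← hva, e, hvat]
    have hne := hkill a haB t htB ha4 ha2 ht2 ht1 hta
    have hκa : κ ((a' : Q) : Γ) = κ (a : Γ) := hκ g a
    by_cases hk1 : (a * t)⁻¹ * a' = 1
    · rw [inv_mul_eq_one] at hk1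
      rw [← hk1] at hκa
      exact hne hκa.symm
    · have : a' = (a * t) * (a * t) ^ 2 := by
        rw [hat, ← hkeq _ hk _ (hsqK a) hk1 ha2]; group
      have e3 : (a * t) * (a * t) ^ 2 = (a * t)⁻¹ := by
        refine eq_inv_of_mul_eq_one_left ?_
        rw [← pow_succ', ← pow_succ, show 2 + 1 + 1 = 2 * 2 from rfl, pow_mul, hat]
        exact hK2 _ (hsqK a)
      rw [this, e3, Subgroup.coe_inv, hκ'] at hκa
      exact hne hκa.symm

end Cfsg.Agent.AltAuto.Pair2
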