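import Cfsg.Agent.Lib.AltAuto.Geom
import Cfsg.Agent.Lib.AltAuto.D4Cert
import Cfsg.Agent.Lib.AltAuto.Pair2
import Mathlib.RingTheory.RootsOfUnity.PrimitiveRoots

/-! Semisimple elements of small order in the triality-twisted groups. -/

set_option autoImplicit false
set_option maxRecDepth 20000

namespace Cfsg.Agent.AltAuto.D4

open Cfsg.Lie Cfsg.Agent.Chev Cfsg.Agent.Chev.Tab Cfsg.Agent.CoxTorus Matrix

local notation "T4" => D4Data.tab

theorem gA4 : (T4).GoodA := TwD4.gA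

theorem cardW : Nat.card ↥(wG good4) = 192 := by
  have h : ((Nat.card ↥(wG good4) : ℕ) : ℤ) = 192 := by
    rw [card_wG good4 D4Data.chainOK]
    decide +kernel
  exact_mod_cast h

theorem sym_perm : (∀ s < 24, D4Data.symA.π.getD s 0 < 24 ∧ D4Data.symA.π'.getD s 0 < 24 ∧
      D4Data.symA.π.getD (D4Data.symA.π'.getD s 0) 0 = s) ∧
    D4Data.symA.π.getD 18 0 = 13 ∧ D4Data.symA.π.getD 13 0 = 12 := by
  decide +kernel

theorem neg_avec : ∀ s < 24, ∀ j < 4, (T4).A j ((T4).neg s) + (T4).A j s = 0 ∧ (T4).neg s < 24 := by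
  decide +kernel

section wt

variable {E : Type*} [Field E]

theorem wt_pow (c : ℕ → Eˣ) (k s : ℕ) : wt T4 E (c ^ k) s = wt T4 E c s ^ k := by
  induction k with
  | zero => simp [wt]
  | succ k ih => rw [pow_succ, pow_succ, wt_mul, ih]

theorem wt_eq_one_of_tor {c : ℕ → Eˣ} (h : tor T4 E c = 1) {i : ℕ} (hi : i < 4) :
    wt T4 E c ((T4).smp i) = 1 := by
  rw [← map_one (tor T4 E), tor_eq_iff_wt good4] at h
  simpa using h i (tab_facts.2.1.symm ▸ hi)

theorem tor_eq_of_simple {c d : ℕ → Eˣ} (h : ∀ i < 4, wt T4 E c ((T4).smp i) = wt T4 E d ((T4).smp i)) :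
    tor T4 E c = tor T4 E d := by
  rw [tor_eq_iff_wt good4]
  intro i hi
  have h1 := wt_mul (T := T4) (F := E) (c / d) d ((T4).smp i)
  rw [div_mul_cancel, h i (tab_facts.2.1 ▸ hi)] at h1
  exact mul_eq_right.1 h1.symm

theorem wt_neg (c : ℕ → Eˣ) {s : ℕ} (hs : s < 24) : wt T4 E c ((T4).neg s) * wt T4 E c s = 1 := by
  rw [wt_eq_chi, wt_eq_chi, ← chi_add]
  rw [show avec T4 ((T4).neg s) + avec T4 s = 0 from funext fun j =>
    (neg_avec s hs j (tab_facts.2.1 ▸ j.2)).1, chi_zero]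

end wt

section tw

variable {E : Type*} [Field E] [Fintype E] {q : ℕ} (hq : IsPrimePow q) (hE : Fintype.card E = q ^ 3)

include hq hE in
/-- The twist on weights. -/
theorem wt_twist {c c' : ℕ → Eˣ} (h : TwD4.sigma hq hE (tor T4 E c) = tor T4 E c') {r : ℕ} (hr : r < 24) :
    wt T4 E c' (D4Data.symA.π.getD r 0) = wt T4 E c r ^ q := by
  have hrn : r < (T4).n := tab_facts.1.symm ▸ hr
  have hπn : D4Data.symA.π.getD r 0 < (T4).n := tab_facts.1.symm ▸ (sym_perm.1 r hr).1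
  set ζ : E := ((D4Data.symA.ζ.getD r 1 : ℤ) : E)
  have h1 := congrArg (TwD4.sigma hq hE) (tor_xg (F := E) good4 c hrn 1)
  simp only [map_mul, map_inv, h] at h1
  rw [TwD4.sigma, graphσ_xg good4 _ _ hrn, graphσ_xg good4 _ _ hrn, map_one, mul_one, mul_one,
    tor_xg good4 c' hπn, TwD4.psi_apply hq hE] at h1
  have h2 := xg_injective good4 hπn h1
  refine Units.ext ?_
  rw [Units.val_pow_eq_pow_val]
  refine mul_right_cancel₀ (b := ζ) ?_ (h2.trans (mul_comm _ _))
  have : ∀ s < 24, (D4Data.symA.ζ.getD s 1 : ℤ).natAbs = 1 := by decide +kernel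
  intro hz
  have hz' : ((D4Data.symA.ζ.getD r 1 : ℤ) : E) = 0 := hz
  rcases Int.natAbs_eq (D4Data.symA.ζ.getD r 1 : ℤ) with e | e <;> rw [this r hr] at e <;>
    rw [e] at hz' <;> simp at hz'

include hq hE in
theorem wt_fixed {c : ℕ → Eˣ} (h : tor T4 E c ∈ TwD4.tw E q) {r : ℕ} (hr : r < 24) :
    wt T4 E c (D4Data.symA.π.getD r 0) = wt T4 E c r ^ q :=
  wt_twist hq hE (TwD4.twisted_fixed hq hE _ h).2 hr

include hq hE in
/-- No element of order five is conjugate to its square. -/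
theorem no_five (h5 : q % 5 = 1) {y x : GL (T4).D.Idx E} (hy : y ∈ TwD4.tw E q) (hx : x ∈ TwD4.tw E q)
    (hy5 : y ^ 5 = 1) (hy1 : y ≠ 1) (hxy : x * y * x⁻¹ = y ^ 2) : False := by
  classical
  haveI : Fact (Nat.Prime 5) := ⟨by norm_num⟩
  have hQ : 5 ∣ Fintype.card E - 1 := by
    rw [hE, ← ZMod.natCast_eq_zero_iff, Nat.cast_sub (Nat.one_le_pow _ _ hq.pos), Nat.cast_pow,
      ← ZMod.natCast_mod q 5, h5]
    simp
  obtain ⟨ζ, hζ⟩ := exists_prime_orderOf_dvd_card' (G := Eˣ) 5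
    (by rwa [Nat.card_units, Nat.card_eq_fintype_card])
  have hprim : IsPrimitiveRoot ζ 5 := hζ ▸ IsPrimitiveRoot.orderOf ζ
  obtain ⟨hyG, hσy⟩ := TwD4.twisted_fixed hq hE y hy
  have hxG := (TwD4.twisted_fixed hq hE x hx).1
  obtain ⟨h, hh, c, hc⟩ := exists_conj_tor' gA4 (r := 5) (by norm_num) hQ
    (by rw [show Nat.card ↥(wG gA4.toGood) = 192 from cardW]; norm_num) hyG hy5
  have hc5 : tor T4 E (c ^ 5) = 1 := by
    rw [map_pow, ← hc, conj_pow, hy5]
    group
  have hu : ∀ i < 4, ∃ a < 5, wt T4 E c ((T4).smp i) = ζ ^ a := fun i hi => by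
    have h1 := wt_eq_one_of_tor hc5 hi
    rw [wt_pow, ← Units.val_inj, Units.val_pow_eq_pow_val, Units.val_one] at h1
    obtain ⟨a, ha, e⟩ := (IsPrimitiveRoot.coe_units_iff.2 hprim).eq_pow_of_pow_eq_one h1
    exact ⟨a, ha, Units.ext (by rw [Units.val_pow_eq_pow_val, e])⟩
  obtain ⟨a0, ha0, e0⟩ := hu 0 (by norm_num)
  obtain ⟨a1, ha1, e1⟩ := hu 1 (by norm_num)
  obtain ⟨a2, ha2, e2⟩ := hu 2 (by norm_num)
  obtain ⟨a3, ha3, e3⟩ := hu 3 (by norm_num)
  set u := [a0, a1, a2, a3] with hudef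
  have huc : ∀ i < 4, wt T4 E c ((T4).smp i) = ζ ^ u.getD i 0 := fun i hi => by
    interval_cases i <;> assumption
  have hmem : u ∈ res5 := by
    simp only [res5, List.mem_flatMap, List.mem_map, List.mem_range]
    exact ⟨a0, ha0, a1, ha1, a2, ha2, a3, ha3, rfl⟩
  have hζ5 : ζ ^ 5 = 1 := hprim.pow_eq_one
  have hval : ∀ s < 24, wt T4 E c s = ζ ^ val 5 u s := fun s hs => wt_val (by norm_num) hζ5 huc hs
  have hval5 : ∀ s, val 5 u s < 5 := fun s => by
    rw [val]
    have := Int.emod_lt_of_pos (sumBelow (fun i => coef s i * ((u.getD i 0 : ℕ) : ℤ)) 4) (show (0 : ℤ) < 5 by norm_num)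
    omega
  -- transporters
  have htrans : ∀ m ∈ (T4).D.group E, ∀ c', m * tor T4 E c * m⁻¹ = tor T4 E c' →
      ∃ k ∈ keys, ∀ i < 4, k.getD i 0 < 24 ∧ wt T4 E c' (k.getD i 0) = ζ ^ u.getD i 0 := by
    intro m hm c' hm'
    obtain ⟨L, hL, hn⟩ := exists_word_of_conj gA4 hm hm'
    obtain ⟨L₀, hL₀, hW₀, e⟩ := exists_word_eq hL
    refine ⟨_, List.mem_map.2 ⟨L₀, hL₀, rfl⟩, fun i hi => ?_⟩
    have hsl := good4.smp_lt (tab_facts.2.1.symm ▸ hi : i < (T4).l)
    rw [show ((List.range 4).map fun i => (T4).rw' L₀ ((T4).smp i)).getD i 0 =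
      (T4).rw' L₀ ((T4).smp i) by simp [List.getD_eq_getElem?_getD, List.getElem?_map, List.getElem?_range hi],
      ← (pL_eq_iff good4 hL hW₀).1 e _ hsl]
    exact ⟨tab_facts.1 ▸ rw'_lt good4 hL hsl, (wt_of_conj good4 hL hn hsl).trans (huc i hi)⟩
  have hxm : (h * x * h⁻¹) * tor T4 E c * (h * x * h⁻¹)⁻¹ = tor T4 E (c ^ 2) := by
    rw [map_pow, ← hc, conj_pow, ← hxy]
    group
  obtain ⟨k, hk, hk'⟩ := htrans _ (mul_mem (mul_mem hh hxG) (inv_mem hh)) _ hxm
  have hσ := TwD4.sigma_tor hq hE c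
  set c' : ℕ → Eˣ := fun j => (c (D4Data.symA.ρ'.getD j 0)) ^ q
  have hσm : (TwD4.sigma hq hE h * h⁻¹) * tor T4 E c * (TwD4.sigma hq hE h * h⁻¹)⁻¹ = tor T4 E c' := by
    rw [← hσ, ← hc, map_mul, map_mul, map_inv, hσy]
    group
  obtain ⟨k', hk2, hk2'⟩ := htrans _
    (mul_mem (graphσ_group good4 _ _ hh) (inv_mem hh)) _ hσm
  have hz : ∀ v : Eˣ, v ^ 5 = 1 → v ^ q = v := fun v hv => by
    rw [← Nat.mod_add_div q 5, h5, pow_add, pow_mul, hv, one_pow, pow_one, mul_one]
  have hinj : ∀ a b, a < 5 → b < 5 → ζ ^ a = ζ ^ b → a = b := fun a b ha hb e =>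
    hprim.pow_inj ha hb e
  have hd : double u k = true := by
    simp only [double, List.all_eq_true, List.mem_range, nat_beq]
    intro i hi
    obtain ⟨hlt, he⟩ := hk' i hi
    rw [wt_pow, hval _ hlt, ← pow_mul] at he
    refine hinj _ _ (Nat.mod_lt _ (by norm_num)) (by interval_cases i <;> assumption) ?_
    rw [← he, mul_comm (val 5 u (k.getD i 0)) 2]
    conv_rhs => rw [← Nat.mod_add_div (2 * val 5 u (k.getD i 0)) 5, pow_add, pow_mul, hζ5, one_pow, mul_one]
  have htw : twisted u k' = true := by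
    simp only [twisted, List.all_eq_true, List.mem_range, nat_beq]
    intro i hi
    obtain ⟨hlt, he⟩ := hk2' i hi
    obtain ⟨-, hlt', hinv⟩ := sym_perm.1 _ hlt
    have h1 := wt_twist hq hE hσ hlt'
    rw [hinv, hval _ hlt', hz _ (by rw [← pow_mul, mul_comm, pow_mul, hζ5, one_pow]), he] at h1
    exact hinj _ _ (hval5 _) (by interval_cases i <;> assumption) h1.symm
  have hcert := List.all_eq_true.1 five_cert u hmem
  rw [List.any_eq_true.2 ⟨k, hk, hd⟩, List.any_eq_true.2 ⟨k', hk2, htw⟩] at hcert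
  simp only [Bool.not_true, Bool.or_false, List.all_eq_true, nat_beq] at hcert
  apply hy1
  rw [← conj_eq_one_iff (a := h), hc, ← map_one (tor T4 E)]
  refine tor_eq_of_simple fun i hi => ?_
  rw [huc i hi]
  have : u.getD i 0 = 0 := by interval_cases i <;> exact hcert _ (by simp [hudef])
  rw [this, pow_zero]
  simp [wt]

end tw

section fix

variable {E : Type*} [Field E] [Fintype E]

/-- The number of fixed vectors. -/
noncomputable def fixCount (g : GL (T4).D.Idx E) : ℕ :=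
  Nat.card {v : (T4).D.Idx → E // (g : Matrix (T4).D.Idx (T4).D.Idx E) *ᵥ v = v}

omit [Fintype E] in
theorem fixCount_conj (m y : GL (T4).D.Idx E) : fixCount (m * y * m⁻¹) = fixCount y := by
  unfold fixCount
  refine Eq.symm (Nat.card_congr ?_)
  refine
    { toFun := fun v => ⟨(m : Matrix _ _ E) *ᵥ v.1, ?_⟩
      invFun := fun v => ⟨((m⁻¹ : GL (T4).D.Idx E) : Matrix _ _ E) *ᵥ v.1, ?_⟩
      left_inv := fun v => Subtype.ext ?_
      right_inv := fun v => Subtype.ext ?_ }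
  · rw [mulVec_mulVec, ← Units.val_mul, inv_mul_cancel_right, Units.val_mul, ← mulVec_mulVec, v.2]
  · have h : y * m⁻¹ = m⁻¹ * (m * y * m⁻¹) := by group
    rw [mulVec_mulVec, ← Units.val_mul, h, Units.val_mul, ← mulVec_mulVec, v.2]
  · dsimp only
    rw [mulVec_mulVec, ← Units.val_mul, inv_mul_cancel, Units.val_one, one_mulVec]
  · dsimp only
    rw [mulVec_mulVec, ← Units.val_mul, mul_inv_cancel, Units.val_one, one_mulVec]

omit [Fintype E] in
theorem fixCount_inv (g : GL (T4).D.Idx E) : fixCount g⁻¹ = fixCount g := by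
  refine Nat.card_congr (Equiv.subtypeEquivRight fun v => ⟨fun h => ?_, fun h => ?_⟩)
  · conv_lhs => rw [← h]
    rw [mulVec_mulVec, ← Units.val_mul, mul_inv_cancel, Units.val_one, one_mulVec]
  · conv_lhs => rw [← h]
    rw [mulVec_mulVec, ← Units.val_mul, inv_mul_cancel, Units.val_one, one_mulVec]

/-- Whether a coordinate is fixed. -/
def fixedIdx (u : List ℕ) : (T4).D.Idx → Bool :=
  Sum.elim (fun _ => true) fun s => Nat.beq (val 4 u s.val) 0

theorem fixed_num : ∀ u ∈ res4, (Finset.univ.filter fun a => fixedIdx u a = true).card = 4 + kills u := by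
  decide +kernel

theorem fixCount_tor {c : ℕ → Eˣ} {u : List ℕ} (hu : u ∈ res4)
    (hc : ∀ s < 24, (wt T4 E c s = 1 ↔ val 4 u s = 0)) :
    fixCount (tor T4 E c) = Fintype.card E ^ (4 + kills u) := by
  classical
  set S := Finset.univ.filter fun a => fixedIdx u a = true
  have hS : ∀ a, dgv T4 (wt T4 E c) a = 1 ↔ a ∈ S := by
    intro a
    simp only [S, Finset.mem_filter, Finset.mem_univ, true_and]
    rcases a with ⟨a, ha⟩ | ⟨a, ha⟩
    · simp [dgv, fixedIdx]
    · simp only [dgv, fixedIdx, Sum.elim_inr, Units.val_eq_one, nat_beq]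
      exact hc a (tab_facts.1 ▸ good4.nroots_eq ▸ ha)
  let e : {v : (T4).D.Idx → E //
      ((tor T4 E c : GL (T4).D.Idx E) : Matrix (T4).D.Idx (T4).D.Idx E) *ᵥ v = v} ≃ (S → E) :=
    { toFun := fun v a => v.1 a.1
      invFun := fun w => ⟨fun a => if h : a ∈ S then w ⟨a, h⟩ else 0, by
        funext a
        rw [tor_apply, dg_val, mulVec_diagonal]
        by_cases h : a ∈ S
        · rw [(hS a).2 h, one_mul]
        · rw [dif_neg h, mul_zero]⟩
      left_inv := fun v => Subtype.ext (funext fun a => by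
        by_cases h : a ∈ S
        · simp [h]
        · have h1 := congrFun v.2 a
          simp only [tor_apply, dg_val, mulVec_diagonal] at h1
          have hne : dgv T4 (wt T4 E c) a ≠ 1 := fun e => h ((hS a).1 e)
          simp only [dif_neg h]
          by_contra hv
          exact hne (mul_eq_right₀ (Ne.symm hv) |>.1 h1))
      right_inv := fun w => funext fun a => by simp [a.2] }
  rw [fixCount, Nat.card_congr e, Nat.card_fun, Nat.card_eq_fintype_card, Nat.card_eq_fintype_card,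
    Fintype.card_coe, fixed_num u hu]

end fix

section mono

variable {E : Type*} [Field E] [Fintype E] {q : ℕ} (hq : IsPrimePow q) (hE : Fintype.card E = q ^ 3)
  (hq4 : q % 4 = 1) {Γ : Type*} [Group Γ] [Finite Γ]

theorem commB_iff (X : Tab.Twist TwD4.gK E) (hX : X.π = fun r => D4Data.symA.π.getD r 0) {L : List ℕ} :
    X.Comm L ↔ commB L = true := by
  simp only [commB, allBelow_eq_true, nat_beq, Twist.Comm, hX, tab_facts.1]

theorem comm_congr {L M : List ℕ} (hL : (T4).Wd L) (hM : (T4).Wd M) (h : pL good4 L = pL good4 M)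
    (hc : commB L = true) : commB M = true := by
  simp only [commB, allBelow_eq_true, nat_beq] at hc ⊢
  intro s hs
  have hs' : s < (T4).n := tab_facts.1.symm ▸ hs
  rw [← (pL_eq_iff good4 hL hM).1 h _ (tab_facts.1.symm ▸ (sym_perm.1 s hs).1),
    ← (pL_eq_iff good4 hL hM).1 h _ hs', hc s hs]

theorem w1_wd {M : List ℕ} (hM : M ∈ w1Words) : (T4).Wd M := by
  have h : w1Words.all (fun M => M.all fun i => Nat.blt i 4) = true := by decide +kernel
  simp only [List.all_eq_true, nat_blt] at h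
  exact fun i hi => tab_facts.2.1.symm ▸ h M hM i hi

theorem sameB_iff {L M : List ℕ} (hL : (T4).Wd L) (hM : (T4).Wd M) :
    sameB L M = true ↔ pL good4 L = pL good4 M := by
  rw [sameB, listBeq_iff, keyL_eq]
  exact ⟨fun h => pL_eq_of_simple good4 hL hM h,
    fun h i hi => (pL_eq_iff good4 hL hM).1 h _ (good4.smp_lt hi)⟩

include hq hE hq4

omit hq4 in
theorem exists_w1 : ∃ φ : ↥((T4).D.monomialSubgroup E ⊓ TwD4.tw E q) →* Equiv.Perm (Fin (T4).n),
    φ.ker = ((T4).D.diagonalSubgroup E ⊓ TwD4.tw E q).subgroupOf ((T4).D.monomialSubgroup E ⊓ TwD4.tw E q) ∧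
    Nat.card φ.range = 12 ∧ ∀ M ∈ w1Words, pL good4 M ∈ φ.range := by
  classical
  obtain ⟨φ, hφr, hφk, -⟩ := (TwD4.X hq hE).exists_perm_hom1 (TwD4.blocks hq hE) hq.one_lt
    (TwD4.hblk hq hE)
  -- the twisted Weyl group
  let f : Fin 12 → φ.range := fun i => ⟨pL good4 (w1Words.getD i []), by
    have hmem : w1Words.getD i [] ∈ w1Words := by
      rw [List.getD_eq_getElem _ _ (show (i : ℕ) < w1Words.length from i.2)]
      exact List.getElem_mem _
    show _ ∈ ((φ.range : Subgroup (Equiv.Perm (Fin (T4).n))) : Set (Equiv.Perm (Fin (T4).n)))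
    rw [hφr, Finset.mem_coe, Twist.mem_w1_iff]
    exact ⟨_, w1_wd hmem, (commB_iff _ rfl).2 (List.all_eq_true.1 w1_comm _ hmem), rfl⟩⟩
  have hf : Function.Bijective f := by
    refine ⟨fun i j e => ?_, fun p => ?_⟩
    · have hmem : ∀ i : Fin 12, w1Words.getD i [] ∈ w1Words := fun i => by
        rw [List.getD_eq_getElem _ _ (show (i : ℕ) < w1Words.length from i.2)]
        exact List.getElem_mem _
      have h1 := List.all_eq_true.1 (List.all_eq_true.1 w1_inj i (List.mem_range.2 i.2)) j (List.mem_range.2 j.2)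
      have h2 := (sameB_iff (w1_wd (hmem i)) (w1_wd (hmem j))).2 (congrArg Subtype.val e)
      rw [sameB] at h2
      simp only [h2, Bool.not_true, Bool.false_or, nat_beq] at h1
      exact Fin.ext h1
    · have hp : (p : Equiv.Perm (Fin (T4).n)) ∈ ((φ.range : Subgroup (Equiv.Perm (Fin (T4).n))) : Set (Equiv.Perm (Fin (T4).n))) := p.2
      rw [hφr, Finset.mem_coe, Twist.mem_w1_iff] at hp
      obtain ⟨L, hL, hc, e⟩ := hp
      obtain ⟨L₀, hL₀, hW₀, e0⟩ := exists_word_eq hL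
      have h1 := List.all_eq_true.1 w1_all L₀ hL₀
      simp only [comm_congr hL hW₀ e0 ((commB_iff _ rfl).1 hc), Bool.not_true, Bool.false_or,
        List.any_eq_true] at h1
      obtain ⟨M, hM, hM'⟩ := h1
      obtain ⟨i, hi, hiM⟩ := List.getElem_of_mem hM
      refine ⟨⟨i, hi⟩, Subtype.ext ?_⟩
      show pL good4 (w1Words.getD i []) = (p : Equiv.Perm (Fin (T4).n))
      rw [List.getD_eq_getElem _ _ hi, hiM, ← e, ← (sameB_iff hW₀ (w1_wd hM)).1 hM', ← e0]
  refine ⟨φ, hφk, by rw [← Nat.card_eq_of_bijective f hf]; simp, fun M hM => ?_⟩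
  show _ ∈ ((φ.range : Subgroup (Equiv.Perm (Fin (T4).n))) : Set (Equiv.Perm (Fin (T4).n)))
  rw [hφr, Finset.mem_coe, Twist.mem_w1_iff]
  exact ⟨M, w1_wd hM, (commB_iff _ rfl).2 (List.all_eq_true.1 w1_comm _ hM), rfl⟩

theorem odd_index : ¬ 2 ∣ (((T4).D.monomialSubgroup E ⊓ TwD4.tw E q).subgroupOf (TwD4.tw E q)).index := by
  classical
  obtain ⟨φ, hφk, hrange, -⟩ := exists_w1 hq hE
  have hD : (T4).D.diagonalSubgroup E ⊓ TwD4.tw E q ≤ (T4).D.monomialSubgroup E ⊓ TwD4.tw E q :=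
    inf_le_inf_right _ (by
      rw [diagonalSubgroup_eq good4]
      rintro _ ⟨c, rfl⟩
      exact torus_le_monomial good4 c)
  have hN : Nat.card ↥((T4).D.monomialSubgroup E ⊓ TwD4.tw E q) = (q - 1) ^ 2 * (q ^ 2 + q + 1) * 12 := by
    have h1 := φ.ker.card_mul_index
    rw [Subgroup.index_ker, hrange, hφk, Nat.card_congr (Subgroup.subgroupOfEquivOfLe hD).toEquiv,
      TwD4.card_torus hq hE] at h1
    exact h1.symm
  have h := (((T4).D.monomialSubgroup E ⊓ TwD4.tw E q).subgroupOf (TwD4.tw E q)).card_mul_index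
  rw [Nat.card_congr (Subgroup.subgroupOfEquivOfLe inf_le_right).toEquiv, hN, TwD4.card_twisted hq hE] at h
  rintro ⟨k, hk⟩
  rw [hk] at h
  obtain ⟨m, rfl⟩ : ∃ m, q = 4 * m + 1 := ⟨q / 4, by omega⟩
  have hm : m ≠ 0 := fun h0 => by simpa [h0] using hq.one_lt
  -- cancel the torus
  have h2 : (4 * m + 1) ^ 2 - 1 = 8 * m * (2 * m + 1) := by
    rw [Nat.sub_eq_iff_eq_add (Nat.one_le_pow _ _ (by omega))]; ring
  have h6 : (4 * m + 1) ^ 6 - 1 = 4 * m * ((4 * m + 1) ^ 2 + (4 * m + 1) + 1) * ((4 * m + 1) ^ 3 + 1) := by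
    rw [Nat.sub_eq_iff_eq_add (Nat.one_le_pow _ _ (by omega))]; ring
  rw [h2, h6, Nat.add_sub_cancel] at h
  have hpos : 0 < 16 * m ^ 2 * ((4 * m + 1) ^ 2 + (4 * m + 1) + 1) := by positivity
  have hcancel : 24 * k = (4 * m + 1) ^ 12 * (2 * (2 * m + 1)) * ((4 * m + 1) ^ 3 + 1) *
      ((4 * m + 1) ^ 8 + (4 * m + 1) ^ 4 + 1) := by
    refine Nat.eq_of_mul_eq_mul_left hpos ?_
    refine Eq.trans ?_ (h.trans ?_) <;> ring
  have h8 := congrArg (Nat.cast : ℕ → ZMod 8) hcancel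
  push_cast at h8
  rw [show (24 : ZMod 8) = 0 from rfl, zero_mul] at h8
  revert h8
  generalize (m : ZMod 8) = z
  revert z
  decide

theorem exists_mono2 (ι : Γ →* GL (T4).D.Idx E) (hι : ∀ x, ι x ∈ TwD4.tw E q) {Q : Subgroup Γ}
    (hQ : IsPGroup 2 Q) :
    ∃ h, ∀ y ∈ Q, h * ι y * h⁻¹ ∈ (T4).D.monomialSubgroup E ⊓ TwD4.tw E q := by
  classical
  haveI : Fact (Nat.Prime 2) := ⟨Nat.prime_two⟩
  let G := TwD4.tw E q
  let N' : Subgroup G := ((T4).D.monomialSubgroup E ⊓ G).subgroupOf G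
  let P₀ : Sylow 2 N' := default
  have hPidx : ¬ 2 ∣ ((P₀ : Subgroup N').map N'.subtype).index := by
    rw [Subgroup.index_map_subtype]
    intro h
    rcases (Nat.prime_two.dvd_mul).1 h with h | h
    · exact P₀.not_dvd_index' (fun h0 => Subgroup.index_ne_zero_of_finite h0) h
    · exact odd_index hq hE hq4 h
  let PG : Sylow 2 G := (P₀.isPGroup'.map N'.subtype).toSylow hPidx
  obtain ⟨Q', hQ'⟩ := (hQ.map (ι.codRestrict G hι)).exists_le_sylow
  obtain ⟨h, hh⟩ := MulAction.exists_smul_eq G Q' PG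
  refine ⟨(h : GL (T4).D.Idx E), fun y hy => ?_⟩
  have hmem : h * (ι.codRestrict G hι y) * h⁻¹ ∈ (PG : Subgroup G) := by
    rw [← hh, Sylow.smul_def, Sylow.pointwise_smul_def]
    exact ⟨_, hQ' ⟨y, hy, rfl⟩, rfl⟩
  obtain ⟨z, -, hz⟩ : h * (ι.codRestrict G hι y) * h⁻¹ ∈ (P₀ : Subgroup N').map N'.subtype := hmem
  have hzN : ((z : G) : GL (T4).D.Idx E) ∈ (T4).D.monomialSubgroup E ⊓ G := z.2
  rwa [show ((z : G) : GL (T4).D.Idx E) = _ from congrArg Subtype.val hz] at hzN

theorem exists_vec {c : ℕ → Eˣ} (hc : tor T4 E c ∈ TwD4.tw E q) (h4 : tor T4 E c ^ 4 = 1) {ζ : Eˣ}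
    (hζ : IsPrimitiveRoot ζ 4) :
    ∃ u ∈ res4, (∀ i < 4, u.getD i 0 < 4 ∧ wt T4 E c ((T4).smp i) = ζ ^ u.getD i 0) ∧
      ∀ s < 24, wt T4 E c s = ζ ^ val 4 u s := by
  rw [← map_pow] at h4
  have hu : ∀ i < 4, ∃ a < 4, wt T4 E c ((T4).smp i) = ζ ^ a := fun i hi => by
    have h1 := wt_eq_one_of_tor h4 hi
    rw [wt_pow, ← Units.val_inj, Units.val_pow_eq_pow_val, Units.val_one] at h1
    obtain ⟨a, ha, e⟩ := (IsPrimitiveRoot.coe_units_iff.2 hζ).eq_pow_of_pow_eq_one h1
    exact ⟨a, ha, Units.ext (by rw [Units.val_pow_eq_pow_val, e])⟩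
  obtain ⟨a0, ha0, e0⟩ := hu 0 (by norm_num)
  obtain ⟨a1, ha1, e1⟩ := hu 1 (by norm_num)
  have hz : ∀ v : Eˣ, v ^ 4 = 1 → v ^ q = v := fun v hv => by
    rw [← Nat.mod_add_div q 4, hq4, pow_add, pow_mul, hv, one_pow, pow_one, mul_one]
  have h04 : (ζ ^ a0) ^ 4 = 1 := by rw [← pow_mul, mul_comm, pow_mul, hζ.pow_eq_one, one_pow]
  obtain ⟨-, -, t2, t3, t4, t5⟩ := tab_facts
  have e2 : wt T4 E c ((T4).smp 2) = ζ ^ a0 := by
    have := wt_fixed hq hE hc (show 18 < 24 by norm_num)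
    rw [sym_perm.2.1, ← t2, e0, hz _ h04] at this
    rw [t4]; exact this
  have e3 : wt T4 E c ((T4).smp 3) = ζ ^ a0 := by
    have := wt_fixed hq hE hc (show 13 < 24 by norm_num)
    rw [sym_perm.2.2, ← t4, e2, hz _ h04] at this
    rw [t5]; exact this
  have key : ∀ i < 4, [a0, a1, a0, a0].getD i 0 < 4 ∧
      wt T4 E c ((T4).smp i) = ζ ^ [a0, a1, a0, a0].getD i 0 := fun i hi => by
    interval_cases i <;> exact ⟨by assumption, by assumption⟩
  refine ⟨[a0, a1, a0, a0], ?_, key, fun s hs =>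
    wt_val (by norm_num) hζ.pow_eq_one (fun i hi => (key i hi).2) hs⟩
  simp only [res4, List.mem_flatMap, List.mem_map, List.mem_range]
  exact ⟨a0, ha0, a1, ha1, rfl⟩

/-- Two-groups have the shape required by the obstruction. -/
theorem shape (ι : Γ →* GL (T4).D.Idx E) (hinj : Function.Injective ι) (hι : ∀ x, ι x ∈ TwD4.tw E q)
    {Q : Subgroup Γ} (hQ : IsPGroup 2 Q) : Pair2.Shape (fun x => fixCount (ι x)) Q := by
  classical
  haveI : Fact (Nat.Prime 2) := ⟨Nat.prime_two⟩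
  obtain ⟨hh, hmem⟩ := exists_mono2 hq hE hq4 ι hι hQ
  let f : Q →* ↥((T4).D.monomialSubgroup E) :=
    (((MulAut.conj hh).toMonoidHom.comp ι).comp Q.subtype).codRestrict _
      fun a => (Subgroup.mem_inf.1 (hmem a a.2)).1
  have hfval : ∀ a : Q, (f a : GL (T4).D.Idx E) = hh * ι a * hh⁻¹ := fun a => rfl
  have hftw : ∀ a : Q, (f a : GL (T4).D.Idx E) ∈ TwD4.tw E q := fun a => (Subgroup.mem_inf.1 (hmem a a.2)).2
  have hfinj : Function.Injective f := fun a b e => by
    have e' : (MulAut.conj hh) (ι a) = (MulAut.conj hh) (ι b) := congrArg Subtype.val e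
    exact Subtype.ext (hinj ((MulAut.conj hh).injective e'))
  set ψ := (toPerm good4).comp f
  set B := ψ.ker
  -- images
  have himg : ∀ a : Q, ∃ M ∈ w1Words, ψ a = pL good4 M := by
    intro a
    obtain ⟨L, hL, hc, c, e⟩ := (TwD4.X hq hE).mono_class (f a).2 (hftw a)
    obtain ⟨L₀, hL₀, hW₀, e0⟩ := exists_word_eq hL
    have h1 := List.all_eq_true.1 w1_all L₀ hL₀
    simp only [comm_congr hL hW₀ e0 ((commB_iff _ rfl).1 hc), Bool.not_true, Bool.false_or,
      List.any_eq_true] at h1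
    obtain ⟨M, hM, hM'⟩ := h1
    exact ⟨M, hM, (toPerm_eq good4 hL e).trans (e0.trans ((sameB_iff hW₀ (w1_wd hM)).1 hM'))⟩
  have hker : ∀ a ∈ B, ∃ c, (f a : GL (T4).D.Idx E) = tor T4 E c := by
    intro a ha
    rw [MonoidHom.mem_ker, MonoidHom.comp_apply, ← MonoidHom.mem_ker, toPerm_ker,
      Subgroup.mem_subgroupOf, diagonalSubgroup_eq good4] at ha
    obtain ⟨c, hc⟩ := ha
    exact ⟨c, hc.symm⟩
  obtain ⟨ζ, hζ⟩ : ∃ ζ : Eˣ, IsPrimitiveRoot ζ 4 := by
    have hd : 4 ∣ Nat.card Eˣ := by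
      rw [Nat.card_units, Nat.card_eq_fintype_card, hE, ← ZMod.natCast_eq_zero_iff,
        Nat.cast_sub (Nat.one_le_pow _ _ hq.pos), Nat.cast_pow, ← ZMod.natCast_mod q 4, hq4]
      simp
    obtain ⟨g, hg⟩ := IsCyclic.exists_ofOrder_eq_natCard (α := Eˣ)
    refine ⟨g ^ (Nat.card Eˣ / 4), ?_⟩
    exact (hg ▸ IsPrimitiveRoot.orderOf g).pow Nat.card_pos (Nat.div_mul_cancel hd).symm
  have hvec : ∀ b : B, (b : Q) ^ 4 = 1 → ∃ u ∈ res4, ∃ c, (f b : GL (T4).D.Idx E) = tor T4 E c ∧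
      (∀ i < 4, u.getD i 0 < 4 ∧ wt T4 E c ((T4).smp i) = ζ ^ u.getD i 0) ∧
      ∀ s < 24, wt T4 E c s = ζ ^ val 4 u s := by
    intro b hb
    obtain ⟨c, hc⟩ := hker b b.2
    obtain ⟨u, hu, h1, h2⟩ := exists_vec hq hE hq4 (hc ▸ hftw b)
      (by rw [← hc, ← SubmonoidClass.coe_pow, ← map_pow, hb, map_one]; rfl) hζ
    exact ⟨u, hu, c, hc, h1, h2⟩
  have hz4 : ∀ a b, a < 4 → b < 4 → ζ ^ a = ζ ^ b → a = b := fun a b ha hb e => hζ.pow_inj ha hb e
  have hmod : ∀ a, ζ ^ (a % 4) = ζ ^ a := fun a => by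
    conv_rhs => rw [← Nat.mod_add_div a 4, pow_add, pow_mul, hζ.pow_eq_one, one_pow, mul_one]
  -- involutions
  have hinv : ∀ b : {b : B // b ^ 2 = 1}, ∃ t ∈ res2, ∃ c, (f (b.1 : Q) : GL (T4).D.Idx E) = tor T4 E c ∧
      (∀ i < 4, t.getD i 0 < 4 ∧ wt T4 E c ((T4).smp i) = ζ ^ t.getD i 0) ∧
      ∀ s < 24, wt T4 E c s = ζ ^ val 4 t s := by
    intro b
    have hb2 : (b.1 : Q) ^ 2 = 1 := by rw [← SubmonoidClass.coe_pow, b.2]; rfl
    obtain ⟨u, hu, c, hc, h1, h2⟩ := hvec b.1 (by rw [show 4 = 2 * 2 by norm_num, pow_mul, hb2, one_pow])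
    refine ⟨u, ?_, c, hc, h1, h2⟩
    have hc2 : tor T4 E (c ^ 2) = 1 := by
      rw [map_pow, ← hc, ← SubmonoidClass.coe_pow, ← map_pow, hb2, map_one]; rfl
    have h20 : ∀ i < 4, (2 * u.getD i 0) % 4 = 0 := fun i hi => by
      refine hz4 _ _ (Nat.mod_lt _ (by norm_num)) (by norm_num) ?_
      rw [hmod, mul_comm, pow_mul, ← (h1 i hi).2, ← wt_pow, wt_eq_one_of_tor hc2 hi, pow_zero]
    have hcheck : res4.all (fun u => !(List.range 4).all (fun i => Nat.beq ((2 * u.getD i 0) % 4) 0) ||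
        res2.any (fun t => t == u)) = true := by decide +kernel
    have h3 := List.all_eq_true.1 hcheck u hu
    rw [List.all_eq_true.2 fun i hi => nat_beq.2 (h20 i (List.mem_range.1 hi))] at h3
    simp only [Bool.not_true, Bool.false_or, List.any_eq_true, beq_iff_eq] at h3
    obtain ⟨t, ht, rfl⟩ := h3
    exact ht
  choose tv htv tc htc htu htval using hinv
  have htinj : Function.Injective tv := fun a b e => by
    refine Subtype.ext (Subtype.ext (hfinj (Subtype.ext ?_)))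
    rw [htc, htc]
    exact tor_eq_of_simple fun i hi => by rw [(htu a i hi).2, (htu b i hi).2, e]
  refine ⟨B, ?_, ?_, ?_, ?_, ?_⟩
  · intro a ha b hb
    obtain ⟨c, hc⟩ := hker a ha
    obtain ⟨d, hd⟩ := hker b hb
    refine hfinj (Subtype.ext ?_)
    rw [map_mul, map_mul, Subgroup.coe_mul, Subgroup.coe_mul, hc, hd, ← map_mul, ← map_mul, mul_comm]
  · -- index
    obtain ⟨k, hk⟩ := IsPGroup.iff_card.1 (hQ.of_surjective ψ.rangeRestrict ψ.rangeRestrict_surjective)
    rw [Subgroup.index_ker, hk]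
    obtain ⟨φ, -, h12, hw⟩ := exists_w1 hq hE
    have hsub : ψ.range ≤ φ.range := by
      rintro _ ⟨a, rfl⟩
      obtain ⟨M, hM, e⟩ := himg a
      exact e ▸ hw M hM
    have h := Subgroup.card_dvd_of_le hsub
    rw [hk, h12] at h
    have hk2 : k ≤ 2 := by
      by_contra hcon
      have := (pow_dvd_pow 2 (show 3 ≤ k by omega)).trans h
      norm_num at this
    exact (pow_dvd_pow 2 hk2).trans (by norm_num)
  · -- involutions
    refine (Nat.card_le_card_of_injective (fun b => (⟨tv b, List.mem_toFinset.2 (htv b)⟩ : res2.toFinset))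
      fun a b e => htinj (congrArg Subtype.val e)).trans ?_
    rw [Nat.card_eq_finsetCard]
    exact (List.toFinset_card_le _).trans le_rfl
  · -- the central element and a reflection
    intro hidx
    rw [Subgroup.index_ker] at hidx
    have hsq : ∀ p : ψ.range, p ^ 4 = 1 := fun p => by rw [← hidx]; exact pow_card_eq_one'
    have hexp : ∀ a : Q, ∀ M ∈ w1Words, ψ a = pL good4 M → invB M = true := by
      intro a M hM e
      have h4 : pL good4 M ^ 4 = 1 := by
        rw [← e]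
        exact congrArg Subtype.val (hsq ⟨ψ a, a, rfl⟩)
      have hcheck : w1Words.all (fun M => !sameB (rep 4 M) [] || invB M) = true := by decide +kernel
      have h5 := List.all_eq_true.1 hcheck M hM
      rw [← pL_rep, ← pL_nil good4, ← sameB_iff (rep_wd (w1_wd hM) 4) (by simp [Wd])] at h4
      simpa [h4] using h5
    obtain ⟨a, ha⟩ : ∃ a : Q, ψ a ≠ 1 := by
      by_contra hcon
      push_neg at hcon
      have : ψ.range = ⊥ := by rw [eq_bot_iff]; rintro _ ⟨a, rfl⟩; exact hcon a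
      rw [this, Subgroup.card_bot] at hidx
      norm_num at hidx
    obtain ⟨b, hb1, hb2⟩ : ∃ b : Q, ψ b ≠ 1 ∧ ψ b ≠ ψ a := by
      by_contra hcon
      push_neg at hcon
      have h2 : Nat.card ψ.range ≤ 2 := by
        let j : ψ.range → Bool := fun p => decide (p.val = 1)
        have hj : Function.Injective j := by
          rintro ⟨_, x, rfl⟩ ⟨_, y, rfl⟩ e
          refine Subtype.ext ?_
          show ψ x = ψ y
          have e' : ψ x = 1 ↔ ψ y = 1 := decide_eq_decide.1 e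
          by_cases hx : ψ x = 1
          · rw [hx, e'.1 hx]
          · rw [hcon x hx, hcon y fun h => hx (e'.2 h)]
        simpa using Nat.card_le_card_of_injective j hj
      omega
    obtain ⟨M, hM, eM⟩ := himg a
    obtain ⟨N, hN, eN⟩ := himg b
    have hMw := w1_wd hM
    have hNw := w1_wd hN
    have hw0 : (T4).Wd w0 := w1_wd (by simp [w0, w1Words])
    have hcomm : ψ a * ψ b = ψ b * ψ a := by
      have hp : ∀ x : Q, ψ x * ψ x = 1 := fun x => by
        obtain ⟨L, hL, e⟩ := himg x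
        rw [e, ← pL_append, ← pL_nil good4]
        exact (sameB_iff (Wd.append_iff.2 ⟨w1_wd hL, w1_wd hL⟩) (by simp [Wd])).1 (hexp x L hL e)
      have h1 := hp (a * b)
      rw [map_mul] at h1
      calc ψ a * ψ b = (ψ a * ψ b)⁻¹ := eq_inv_of_mul_eq_one_left h1
        _ = ψ b * ψ a := by
          rw [_root_.mul_inv_rev, ← eq_inv_of_mul_eq_one_left (hp a), ← eq_inv_of_mul_eq_one_left (hp b)]
    have hcert := List.all_eq_true.1 (List.all_eq_true.1 four_cert M hM) N hN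
    have f1 : sameB (M ++ N) (N ++ M) = true :=
      (sameB_iff (Wd.append_iff.2 ⟨hMw, hNw⟩) (Wd.append_iff.2 ⟨hNw, hMw⟩)).2
        (by rw [pL_append, pL_append, ← eM, ← eN, hcomm])
    have f2 : sameB M N = false := Bool.eq_false_iff.2 fun h =>
      hb2 (by rw [eM, eN, (sameB_iff hMw hNw).1 h])
    have f3 : sameB M [] = false := Bool.eq_false_iff.2 fun h =>
      ha (by rw [eM, (sameB_iff hMw (by simp [Wd])).1 h, pL_nil])
    have f4 : sameB N [] = false := Bool.eq_false_iff.2 fun h =>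
      hb1 (by rw [eN, (sameB_iff hNw (by simp [Wd])).1 h, pL_nil])
    simp only [hexp a M hM eM, hexp b N hN eN, f1, f2, f3, f4, Bool.not_false, Bool.and_self,
      Bool.not_true, Bool.false_or, Bool.or_eq_true] at hcert
    obtain ⟨n, hn⟩ : ∃ n : Q, ψ n = pL good4 w0 := by
      rcases hcert with (h | h) | h
      · exact ⟨a, by rw [eM, (sameB_iff hMw hw0).1 h]⟩
      · exact ⟨b, by rw [eN, (sameB_iff hNw hw0).1 h]⟩
      · exact ⟨a * b, by rw [map_mul, eM, eN, ← pL_append,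
          (sameB_iff (Wd.append_iff.2 ⟨hMw, hNw⟩) hw0).1 h]⟩
    obtain ⟨s, hs1, hs2⟩ : ∃ s : Q, ψ s ≠ 1 ∧ ψ s ≠ pL good4 w0 := by
      by_cases h : ψ a = pL good4 w0
      · exact ⟨b, hb1, fun e => hb2 (e.trans h.symm)⟩
      · exact ⟨a, ha, h⟩
    obtain ⟨S, hS, eS⟩ := himg s
    refine ⟨n, s, ?_, ?_⟩
    · intro x hx
      obtain ⟨c, hc⟩ := hker x hx
      have hx' : n * x * n⁻¹ ∈ B := (MonoidHom.normal_ker ψ).conj_mem x hx n
      obtain ⟨c', hc'⟩ := hker _ hx'
      obtain ⟨L, hL, d, hd⟩ := exists_mono_word good4 (f n)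
      have hLw : ∀ r < 24, (T4).rw' L r = (T4).neg r := fun r hr => by
        have e : pL good4 L = pL good4 w0 := (toPerm_eq good4 hL hd).symm.trans hn
        rw [(pL_eq_iff good4 hL hw0).1 e r (tab_facts.1.symm ▸ hr), w0_neg r hr]
      have hn' : nWd good4 E L * tor T4 E c * (nWd good4 E L)⁻¹ = tor T4 E c' := by
        have h1 : (tor T4 E d * nWd good4 E L) * tor T4 E c * (tor T4 E d * nWd good4 E L)⁻¹ = tor T4 E c' := by
          rw [← hd, ← hc, ← hc', map_mul, map_mul, map_inv]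
          rfl
        calc _ = (tor T4 E d)⁻¹ * ((tor T4 E d * nWd good4 E L) * tor T4 E c * (tor T4 E d * nWd good4 E L)⁻¹) * tor T4 E d := by group
          _ = _ := by rw [h1, ← map_inv, ← map_mul, ← map_mul, mul_comm d⁻¹, inv_mul_cancel_right]
      refine hfinj (Subtype.ext ?_)
      rw [hc', map_inv, Subgroup.coe_inv, hc, ← map_inv]
      refine tor_eq_of_simple fun i hi => ?_
      set r := (T4).smp i
      have hr : r < 24 := tab_facts.1 ▸ good4.smp_lt (tab_facts.2.1.symm ▸ hi)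
      obtain ⟨-, hnr⟩ := neg_avec r hr 0 (by norm_num)
      have h1 := wt_of_conj good4 hL hn' (tab_facts.1.symm ▸ hnr : (T4).neg r < (T4).n)
      rw [hLw _ hnr, neg_neg (tab_facts.1.symm ▸ hr)] at h1
      rw [h1]
      have h2 := wt_neg c hr
      have h3 := wt_mul (T := T4) (F := E) c⁻¹ c r
      rw [inv_mul_cancel, show wt T4 E (1 : ℕ → Eˣ) r = 1 by simp [wt]] at h3
      exact mul_right_cancel (h2.trans h3)
    · have hcount := List.all_eq_true.1 move_cert S hS
      have g1 : sameB S [] = false := Bool.eq_false_iff.2 fun h =>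
        hs1 (by rw [eS, (sameB_iff (w1_wd hS) (by simp [Wd])).1 h, pL_nil])
      have g2 : sameB S w0 = false := Bool.eq_false_iff.2 fun h =>
        hs2 (by rw [eS, (sameB_iff (w1_wd hS) hw0).1 h])
      simp only [g1, g2, hexp s S hS eS, Bool.not_true, Bool.false_or, nat_ble] at hcount
      set fl := res2.filter fun t => (List.range 4).all fun i =>
        Nat.beq (val 4 t ((T4).rw' S ((T4).smp i))) (t.getD i 0)
      refine le_trans (Nat.card_le_card_of_injective
        (fun b => (⟨tv ⟨b.1, b.2.1⟩, List.mem_toFinset.2 ?_⟩ : fl.toFinset))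
        fun u v e => ?_) ?_
      · refine List.mem_filter.2 ⟨htv _, List.all_eq_true.2 fun i hi => nat_beq.2 ?_⟩
        rw [List.mem_range] at hi
        set b' : {b : B // b ^ 2 = 1} := ⟨b.1, b.2.1⟩
        have hb : s * (b.1 : Q) = (b.1 : Q) * s := b.2.2
        obtain ⟨L, hL, d, hd⟩ := exists_mono_word good4 (f s)
        have hLS : pL good4 L = pL good4 S := (toPerm_eq good4 hL hd).symm.trans eS
        have hn' : nWd good4 E L * tor T4 E (tc b') * (nWd good4 E L)⁻¹ = tor T4 E (tc b') := by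
          have h := congrArg (fun v => (f v : GL (T4).D.Idx E)) hb
          simp only [map_mul, Subgroup.coe_mul] at h
          rw [hd, htc b'] at h
          rw [mul_inv_eq_iff_eq_mul]
          refine mul_left_cancel (a := tor T4 E d) ?_
          rw [← mul_assoc, h, ← mul_assoc, ← map_mul, ← mul_assoc, ← map_mul, mul_comm]
        have hsl := good4.smp_lt (tab_facts.2.1.symm ▸ hi : i < (T4).l)
        have h1 := wt_of_conj good4 hL hn' hsl
        rw [(pL_eq_iff good4 hL (w1_wd hS)).1 hLS _ hsl, (htu b' i hi).2,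
          htval b' _ (tab_facts.1 ▸ rw'_lt good4 (w1_wd hS) hsl)] at h1
        refine hz4 _ _ ?_ (htu b' i hi).1 h1
        rw [val]
        have := Int.emod_lt_of_pos
          (sumBelow (fun j => coef ((T4).rw' S ((T4).smp i)) j * (((tv b').getD j 0 : ℕ) : ℤ)) 4)
          (show (0 : ℤ) < 4 by norm_num)
        omega
      · have e' := htinj (Subtype.ext_iff.1 e :)
        exact Subtype.ext (Subtype.ext_iff.1 e' :)
      · rw [Nat.card_eq_finsetCard]
        exact (List.toFinset_card_le _).trans hcount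
  · -- fixed vectors
    intro a ha t ht ha4 ha2 ht2 ht1 hta
    obtain ⟨u, hu, c, hc, hcu, hcval⟩ := hvec ⟨a, ha⟩ ha4
    set tb : {b : B // b ^ 2 = 1} := ⟨⟨t, ht⟩, Subtype.ext ht2⟩
    have hft : (f t : GL (T4).D.Idx E) = tor T4 E (tc tb) := htc tb
    have hfa : (f a : GL (T4).D.Idx E) = tor T4 E c := hc
    have hv : ∀ i < 4, wt T4 E (c * tc tb) ((T4).smp i) = ζ ^ (add4 u (tv tb)).getD i 0 := fun i hi => by
      rw [wt_mul, (hcu i hi).2, (htu tb i hi).2, ← pow_add, add4,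
        List.getD_eq_getElem?_getD (l := (List.range 4).map _), List.getElem?_map, List.getElem?_range hi,
        Option.map_some, Option.getD_some, hmod]
    have hmem4 : add4 u (tv tb) ∈ res4 := by
      have hcheck : res4.all (fun u => res2.all fun t => res4.any fun w => w == add4 u t) = true := by
        decide +kernel
      have h3 := List.all_eq_true.1 (List.all_eq_true.1 hcheck u hu) _ (htv tb)
      obtain ⟨w, hw, hw'⟩ := List.any_eq_true.1 h3
      rwa [← beq_iff_eq.1 hw']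
    have hiff : ∀ {c : ℕ → Eˣ} {u : List ℕ}, (∀ s < 24, wt T4 E c s = ζ ^ val 4 u s) →
        ∀ s < 24, (wt T4 E c s = 1 ↔ val 4 u s = 0) := fun {c u} h s hs => by
      rw [h s hs]
      refine ⟨fun e => hz4 _ _ ?_ (by norm_num) (e.trans (pow_zero ζ).symm), fun e => by rw [e, pow_zero]⟩
      rw [val]
      have := Int.emod_lt_of_pos
        (sumBelow (fun j => coef s j * ((u.getD j 0 : ℕ) : ℤ)) 4) (show (0 : ℤ) < 4 by norm_num)
      omega
    show fixCount (ι (a : Γ)) ≠ fixCount (ι ((a * t : Q) : Γ))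
    rw [← fixCount_conj hh (ι (a : Γ)), ← hfval, hfa, ← fixCount_conj hh (ι ((a * t : Q) : Γ)),
      ← hfval, map_mul, Subgroup.coe_mul, hfa, hft, ← map_mul, fixCount_tor hu (hiff hcval),
      fixCount_tor hmem4 (hiff fun s hs => wt_val (by norm_num) hζ.pow_eq_one hv hs)]
    have hcert := List.all_eq_true.1 (List.all_eq_true.1 kill_cert u hu) _ (htv tb)
    have hone : ∀ {b : Q} {c : ℕ → Eˣ} {v : List ℕ}, (f b : GL (T4).D.Idx E) = tor T4 E c →
        (∀ i < 4, wt T4 E c ((T4).smp i) = ζ ^ v.getD i 0) → ∀ {b' : Q} {c' : ℕ → Eˣ} {v' : List ℕ},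
        (f b' : GL (T4).D.Idx E) = tor T4 E c' → (∀ i < 4, wt T4 E c' ((T4).smp i) = ζ ^ v'.getD i 0) →
        eq4 v v' = true → b = b' := by
      intro b c v hb hcv b' c' v' hb' hcv' he
      simp only [eq4, List.all_eq_true, List.mem_range, nat_beq] at he
      refine hfinj (Subtype.ext ?_)
      rw [hb, hb']
      exact tor_eq_of_simple fun i hi => by rw [hcv i hi, hcv' i hi, he i hi]
    have h1c : ∀ i < 4, wt T4 E (1 : ℕ → Eˣ) ((T4).smp i) = ζ ^ [0, 0, 0, 0].getD i 0 := fun i hi => by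
      interval_cases i <;> simp [wt]
    have hf1 : (f 1 : GL (T4).D.Idx E) = tor T4 E 1 := by rw [map_one, map_one]; rfl
    have hfa2 : (f (a ^ 2) : GL (T4).D.Idx E) = tor T4 E (c * c) := by
      rw [map_pow, SubmonoidClass.coe_pow, hfa, pow_two, ← map_mul]
    have hv2 : ∀ i < 4, wt T4 E (c * c) ((T4).smp i) = ζ ^ (add4 u u).getD i 0 := fun i hi => by
      rw [wt_mul, (hcu i hi).2, ← pow_add, add4,
        List.getD_eq_getElem?_getD (l := (List.range 4).map _), List.getElem?_map, List.getElem?_range hi,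
        Option.map_some, Option.getD_some, hmod]
    have g1 : eq4 (tv tb) [0, 0, 0, 0] = false := Bool.eq_false_iff.2 fun h =>
      ht1 (hone hft (fun i hi => (htu tb i hi).2) hf1 h1c h)
    have g2 : eq4 (add4 u u) (tv tb) = false := Bool.eq_false_iff.2 fun h =>
      hta (hone hfa2 hv2 hft (fun i hi => (htu tb i hi).2) h).symm
    have g3 : eq4 (add4 u u) [0, 0, 0, 0] = false := Bool.eq_false_iff.2 fun h =>
      ha2 (hone hfa2 hv2 hf1 h1c h)
    simp only [g1, g2, g3, Bool.false_or, Bool.not_eq_true', nat_beq_false] at hcert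
    intro e
    exact hcert (Nat.add_left_cancel (Nat.pow_right_injective Fintype.one_lt_card e))

end mono

end Cfsg.Agent.AltAuto.D4
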