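import Cfsg.Agent.Lib.AltAuto.Lift
import Cfsg.Agent.Lib.AltAuto.D4Tw
import Mathlib.NumberTheory.Multiplicity

/-! Alternating sections of the triality-twisted groups. -/

set_option autoImplicit false
set_option maxRecDepth 20000

namespace Cfsg.Agent.AltAuto.D4

open Cfsg.Lie Cfsg.Agent.Chev Cfsg.Agent.Chev.Tab Cfsg.Agent.ChevAut Cfsg.Agent.CoxTorus Matrix

universe u

local notation "T4" => D4Data.tab

/-- A five-cycle in degree seven. -/
def s5 : ↥(alternatingGroup (Fin 7)) :=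
  ⟨⟨![1, 2, 3, 4, 0, 5, 6], ![4, 0, 1, 2, 3, 5, 6], by decide, by decide⟩,
    Equiv.Perm.mem_alternatingGroup.2 (by decide +kernel)⟩

/-- Doubling on the five-cycle. -/
def m5 : ↥(alternatingGroup (Fin 7)) :=
  ⟨⟨![0, 2, 4, 1, 3, 6, 5], ![0, 3, 1, 4, 2, 6, 5], by decide, by decide⟩,
    Equiv.Perm.mem_alternatingGroup.2 (by decide +kernel)⟩

theorem m5_conj : m5 * s5 * m5⁻¹ = s5 ^ 2 := by decide +kernel

theorem s5_order : orderOf s5 = 5 := by
  haveI : Fact (Nat.Prime 5) := ⟨by norm_num⟩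
  exact orderOf_eq_prime (by decide +kernel) (by decide +kernel)

theorem pow_conj {G : Type*} [Group G] {x v : G} {n : ℕ} (h : v * x * v⁻¹ = x ^ n) :
    ∀ k : ℕ, v ^ k * x * (v ^ k)⁻¹ = x ^ (n ^ k)
  | 0 => by simp
  | k + 1 => by
    rw [pow_succ' v, show v * v ^ k * x * (v * v ^ k)⁻¹ = v * (v ^ k * x * (v ^ k)⁻¹) * v⁻¹ by group,
      pow_conj h k, ← conj_pow, h, ← pow_mul, pow_succ']

/-- A power of `2` with order four modulo a power of five. -/
theorem two_lift (n : ℕ) : (2 ^ 5 ^ n) ^ 4 % 5 ^ (n + 1) = 1 ∧ 2 ^ 5 ^ n % 5 = 2 := by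
  constructor
  · have h1 := dvd_sub_pow_of_dvd_sub (R := ℤ) (p := 5) (a := 16) (b := 1) (by norm_num) n
    rw [one_pow] at h1
    rw [← pow_mul, mul_comm, pow_mul, show (2 : ℕ) ^ 4 = 16 by norm_num]
    have h2 : 1 ≡ 16 ^ 5 ^ n [MOD 5 ^ (n + 1)] := Nat.modEq_iff_dvd.2 (by push_cast; exact h1)
    rw [← h2]
    exact Nat.one_mod_eq_one.2 (Nat.one_lt_pow n.succ_ne_zero (by norm_num : 1 < 5)).ne'
  · have h4 : 5 ^ n % 4 = 1 := by rw [Nat.pow_mod]; norm_num
    rw [← Nat.mod_add_div (5 ^ n) 4, h4, pow_add, pow_mul]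
    simp [Nat.mul_mod, Nat.pow_mod]

/-- A normalised commutative five-group over a cycle contains an element of order five mapped to its square. -/
theorem exists_eigen {Γ Q : Type*} [Group Γ] [Finite Γ] [Group Q] {π : Γ →* Q} {P : Subgroup Γ}
    (hP : IsPGroup 5 P) (hc : ∀ a ∈ P, ∀ b ∈ P, a * b = b * a) {g : Γ} (hg : ∀ a ∈ P, g * a * g⁻¹ ∈ P)
    {σ : Q} (hσ : orderOf σ = 5) {y : Γ} (hy : y ∈ P) (hyσ : π y = σ)
    (hk : π g * σ * (π g)⁻¹ = σ ^ 2) :
    ∃ (g' z : Γ), z ^ 5 = 1 ∧ z ≠ 1 ∧ g' * z * g'⁻¹ = z ^ 2 := by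
  classical
  haveI : Fact (Nat.Prime 5) := ⟨by norm_num⟩
  obtain ⟨k₂, m, hm, hkm⟩ := Nat.exists_eq_pow_mul_and_not_dvd (orderOf_pos g).ne' 2 (by norm_num)
  set g' := g ^ (m * m)
  set N := 2 ^ (k₂ + 2)
  have hgN : g' ^ N = 1 := by
    rw [← pow_mul]
    refine orderOf_dvd_iff_pow_eq_one.1 ⟨m * 4, ?_⟩
    rw [hkm, show N = 2 ^ k₂ * 4 by rw [show N = 2 ^ (k₂ + 2) from rfl, pow_add]; rfl]
    ring
  have hg' : ∀ a ∈ P, g' * a * g'⁻¹ ∈ P := by
    intro a ha
    show g ^ (m * m) * a * (g ^ (m * m))⁻¹ ∈ P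
    generalize m * m = j
    induction j with
    | zero => simpa
    | succ j ih =>
      rw [pow_succ', show g * g ^ j * a * (g * g ^ j)⁻¹ = g * (g ^ j * a * (g ^ j)⁻¹) * g⁻¹ by group]
      exact hg _ ih
  have hk' : π g' * σ * (π g')⁻¹ = σ ^ 2 := by
    rw [map_pow, pow_conj hk, ← pow_mod_orderOf σ (2 ^ (m * m)), hσ]
    have h4 : m * m % 4 = 1 := by
      have : m % 4 = 1 ∨ m % 4 = 3 := by omega
      rw [Nat.mul_mod]
      rcases this with e | e <;> rw [e]
    rw [← Nat.mod_add_div (m * m) 4, h4, pow_add, pow_mul]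
    simp [Nat.mul_mod, Nat.pow_mod]
  obtain ⟨n, hn⟩ := IsPGroup.iff_orderOf.1 hP ⟨y, hy⟩
  obtain ⟨hlift, hlift5⟩ := two_lift n
  set k := 2 ^ 5 ^ n
  have hkN : k ^ N % 5 ^ (n + 1) = 1 := by
    rw [show N = 4 * 2 ^ k₂ by rw [show N = 2 ^ (k₂ + 2) from rfl, pow_add]; ring, pow_mul, Nat.pow_mod,
      hlift, one_pow, Nat.one_mod_eq_one.2]
    exact (Nat.one_lt_pow n.succ_ne_zero (by norm_num : 1 < 5)).ne'
  let T : P →* P :=
    ((MulAut.conj g').toMonoidHom.comp P.subtype).codRestrict P fun a => hg' a a.2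
  have hT : ∀ a : P, (T a : Γ) = g' * a * g'⁻¹ := fun a => rfl
  letI : CommGroup P :=
    { (inferInstance : Group P) with mul_comm := fun a b => Subtype.ext (hc a a.2 b b.2) }
  set y' : P := ⟨y, hy⟩
  have hyk : y' ^ k ^ N = y' := by
    conv_lhs => rw [← Nat.mod_add_div (k ^ N) (5 ^ (n + 1)), hkN, pow_add, pow_one, pow_mul,
      pow_succ 5 n, pow_mul, ← hn, pow_orderOf_eq_one, one_pow, one_pow, mul_one]
  have hiter : ∀ i, ((T^[i] y' : P) : Γ) = g' ^ i * y * (g' ^ i)⁻¹ := by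
    intro i
    induction i with
    | zero => simp [y']
    | succ i ih => rw [Function.iterate_succ_apply', hT, ih, pow_succ']; group
  let a : ℕ → P := fun i => (T^[i] y') ^ k ^ (N + 1 - i)
  set z : P := ∏ i ∈ Finset.range N, (T^[i] y') ^ k ^ (N - i)
  have hTz : T z = z ^ k := by
    have h1 : T z = ∏ i ∈ Finset.range N, a (i + 1) := by
      rw [map_prod]
      refine Finset.prod_congr rfl fun i _ => ?_
      rw [map_pow, ← Function.iterate_succ_apply' T, show N - i = N + 1 - (i + 1) by omega]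
    have h2 : z ^ k = ∏ i ∈ Finset.range N, a i := by
      rw [← Finset.prod_pow]
      refine Finset.prod_congr rfl fun i hi => ?_
      rw [← pow_mul, ← pow_succ, show N - i + 1 = N + 1 - i by
        have := Finset.mem_range.1 hi
        omega]
    have hends : a N = a 0 := by
      have e : T^[N] y' = y' := Subtype.ext (by rw [hiter, hgN]; simp [y'])
      show (T^[N] y') ^ k ^ (N + 1 - N) = (T^[0] y') ^ k ^ (N + 1 - 0)
      rw [e, Function.iterate_zero_apply, Nat.add_sub_cancel_left, pow_one, Nat.sub_zero, pow_succ k N,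
        pow_mul, hyk]
    rw [h1, h2]
    have h3 := Finset.prod_range_succ' a N
    rw [Finset.prod_range_succ a N, hends] at h3
    exact (mul_right_cancel h3).symm
  -- its image
  have hπz : π (z : Γ) = σ ^ N := by
    have h1 : ∀ i, π ((T^[i] y' : P) : Γ) = σ ^ 2 ^ i := fun i => by
      rw [hiter, map_mul, map_mul, map_inv, map_pow, hyσ, pow_conj hk']
    have h2 : ∀ i ∈ Finset.range N, π (((T^[i] y') ^ k ^ (N - i) : P) : Γ) = σ := by
      intro i hi
      rw [SubmonoidClass.coe_pow, map_pow, h1, ← pow_mul, ← pow_mod_orderOf σ, hσ, Nat.mul_mod,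
        Nat.pow_mod k, hlift5, ← Nat.mul_mod, ← pow_add,
        Nat.add_sub_cancel' (Finset.mem_range.1 hi).le,
        show N = 4 * 2 ^ k₂ by rw [show N = 2 ^ (k₂ + 2) from rfl, pow_add]; ring, pow_mul, Nat.pow_mod]
      norm_num
    have h3 : ∀ S : Finset ℕ, S ⊆ Finset.range N →
        π ((∏ i ∈ S, (T^[i] y') ^ k ^ (N - i) : P) : Γ) = σ ^ S.card := by
      intro S
      induction S using Finset.induction_on with
      | empty => intro _; simp
      | insert b S hb ih =>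
        intro hsub
        rw [Finset.prod_insert hb, Subgroup.coe_mul, map_mul, h2 b (hsub (Finset.mem_insert_self b S)),
          ih ((Finset.subset_insert b S).trans hsub), Finset.card_insert_of_notMem hb, pow_succ']
    rw [h3 _ subset_rfl, Finset.card_range]
  have hz1 : (z : Γ) ≠ 1 := fun e => by
    rw [e, map_one] at hπz
    have := orderOf_dvd_of_pow_eq_one hπz.symm
    rw [hσ] at this
    exact absurd ((Nat.Prime.dvd_of_dvd_pow (by norm_num) this)) (by norm_num)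
  obtain ⟨l, hl⟩ := IsPGroup.iff_orderOf.1 hP z
  rcases Nat.eq_zero_or_pos l with rfl | hl0
  · exact absurd (congrArg Subtype.val (orderOf_eq_one_iff.1 (hl.trans (pow_zero 5)))) hz1
  obtain ⟨l, rfl⟩ : ∃ j, l = j + 1 := ⟨l - 1, by omega⟩
  set w : P := z ^ 5 ^ l
  have hw5 : w ^ 5 = 1 := by rw [← pow_mul, ← pow_succ, ← hl, pow_orderOf_eq_one]
  refine ⟨g', (w : Γ), by rw [← SubmonoidClass.coe_pow, hw5]; rfl, fun e => ?_, ?_⟩
  · have h1 : z ^ 5 ^ l = 1 := Subtype.ext e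
    have := Nat.le_of_dvd (pow_pos (by norm_num) l) (hl ▸ orderOf_dvd_of_pow_eq_one h1)
    rw [pow_succ] at this
    have := pow_pos (show 0 < 5 by norm_num) l
    omega
  · rw [← hT, ← SubmonoidClass.coe_pow]
    congr 1
    rw [map_pow, hTz, ← pow_mul, mul_comm k, pow_mul, ← Nat.mod_add_div k 5, hlift5, pow_add, pow_mul,
      show (z ^ 5 ^ l) ^ 5 = 1 from hw5, one_pow, mul_one]

/-- The bound. -/
theorem d4_bound {K : Type u} [Field K] [Fintype K] (p a : ℕ) [Fact p.Prime] [CharP K p] (ha : 1 ≤ a)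
    (hK : Fintype.card K = (p ^ a) ^ 3) (r : ℕ) (H : Subgroup ↥(twistedD4 K (p ^ a))) (N : Subgroup ↥H)
    [N.Normal] (h : Nonempty (↥H ⧸ N ≃* ↥(alternatingGroup (Fin r)))) :
    r ≤ 6 + (if p = 5 then 1 else 0) := by
  classical
  have hp : p.Prime := Fact.out
  by_contra hr
  set q₀ := p ^ a with hq₀
  have hq₀' : IsPrimePow q₀ := ⟨p, a, hp.prime, ha, rfl⟩
  obtain ⟨E, _, _, hE, ⟨φ⟩⟩ := exists_field (F := K) (d := 4) (by norm_num)
  set q := q₀ ^ 4 with hqdef
  have hq : IsPrimePow q := hq₀'.pow (by norm_num)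
  have hE' : Fintype.card E = q ^ 3 := by rw [hE, hK, hqdef]; ring
  haveI : Finite E := Finite.of_fintype E
  -- the generators go to generators
  have hmap : ∀ x ∈ TwD4.tw K q₀, fieldMap T4 φ x ∈ TwD4.tw E q := by
    have hle : TwD4.tw K q₀ ≤ (TwD4.tw E q).comap (fieldMap T4 φ) := by
      show (T4).D.genSubgroup K (d4Words K q₀) ≤ _
      rw [genSubgroup_eq good4, Subgroup.closure_le]
      rintro _ ⟨w, hw, rfl⟩
      show fieldMap T4 φ _ ∈ TwD4.tw E q
      have hcyc : ∀ t : K, t ^ q = t ^ q₀ ∧ t ^ (q ^ 2) = t ^ (q₀ ^ 2) := fun t => by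
        have h3 : ∀ s : K, s ^ (q₀ ^ 3) = s := TwField.pow_pow_eq hK
        constructor
        · rw [hqdef, show 4 = 3 + 1 from rfl, pow_add, pow_mul, h3, pow_one]
        · rw [hqdef, ← pow_mul, show 4 * 2 = 3 + (3 + 2) from rfl, pow_add, pow_mul, h3, pow_add,
            pow_mul, h3]
      rcases hw with ⟨t, ht, i, hi, rfl⟩ | ⟨t, rs, hrs, rfl⟩
      · simp only [List.map_cons, List.map_nil, List.prod_cons, List.prod_nil, mul_one, fieldMap_xg]
        refine TwD4.mid_mem (by simpa using hi) ?_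
        rw [← map_pow, (hcyc t).1, ht]
      · have h1 := word_mem good4 (F := E)
          (show [(rs.1, φ t), (rs.2.1, φ t ^ q), (rs.2.2, φ t ^ (q ^ 2))] ∈ d4Words E q from
            Or.inr ⟨φ t, rs, hrs, rfl⟩)
        rw [← map_pow, ← map_pow, (hcyc t).1, (hcyc t).2] at h1
        simpa [fieldMap_xg, mul_assoc] using h1
    exact fun x hx => hle hx
  let emb4 : ∀ Γ : Subgroup ↥(twistedD4 K q₀), ↥Γ →* GL (T4).D.Idx E := fun Γ =>
    ((fieldMap T4 φ).comp (twistedD4 K q₀).subtype).comp Γ.subtype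
  have hemb : ∀ Γ : Subgroup ↥(twistedD4 K q₀), Function.Injective (emb4 Γ) ∧
      ∀ x, emb4 Γ x ∈ TwD4.tw E q := fun Γ =>
    ⟨(Units.map_injective (Matrix.map_injective φ.injective)).comp
      (Subtype.val_injective.comp Γ.subtype_injective), fun x => hmap _ x.1.2⟩
  by_cases h5 : p = 5
  · rw [if_pos h5] at hr
    obtain ⟨Γ, π, hπ⟩ := exists_restrict h (m := 8) (by omega)
    have hq4 : q % 4 = 1 := by
      rw [hqdef, hq₀, h5, ← pow_mul, Nat.pow_mod]
      norm_num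
    obtain ⟨hinj, hι⟩ := hemb Γ
    exact Pair2.impossible hπ (fun x => fixCount (emb4 Γ x))
      (fun g x => by rw [map_mul, map_mul, map_inv, fixCount_conj])
      (fun x => by rw [map_inv, fixCount_inv])
      (fun Q hQ => shape hq hE' hq4 (emb4 Γ) hinj hι hQ)
  · rw [if_neg h5] at hr
    obtain ⟨Γ, π, hπ⟩ := exists_restrict h (m := 7) (by omega)
    haveI : Fact (Nat.Prime 5) := ⟨by norm_num⟩
    obtain ⟨hinj, hι⟩ := hemb Γ
    have hndvd : ¬ 5 ∣ q₀ := fun hd => h5 (((Nat.prime_dvd_prime_iff_eq (by norm_num) hp).1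
      ((show Nat.Prime 5 by norm_num).dvd_of_dvd_pow hd)).symm)
    have hq5 : q % 5 = 1 := by
      rw [hqdef, Nat.pow_mod]
      have h1 : q₀ % 5 ≠ 0 := fun e => hndvd (Nat.dvd_of_mod_eq_zero e)
      have h2 : q₀ % 5 < 5 := Nat.mod_lt _ (by norm_num)
      interval_cases hh : q₀ % 5 <;> simp_all
    have hQ : 5 ∣ Fintype.card E - 1 := by
      rw [hE', ← ZMod.natCast_eq_zero_iff, Nat.cast_sub (Nat.one_le_pow _ _ hq.pos), Nat.cast_pow,
        ← ZMod.natCast_mod q 5, hq5]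
      simp
    obtain ⟨P, g, hP, hg, ⟨y, hy, hy5⟩, hk⟩ := exists_single hπ s5_order m5_conj
    have hGι : ∀ x, emb4 Γ x ∈ (T4).D.group E := fun x => (TwD4.twisted_fixed hq hE' _ (hι x)).1
    obtain ⟨hh, -, hd⟩ := exists_diag gA4 (emb4 Γ) hGι hQ
      (by rw [show Nat.card ↥(wG gA4.toGood) = 192 from cardW]; norm_num) hP
    have hc : ∀ u ∈ P, ∀ v ∈ P, u * v = v * u := by
      intro u hu v hv
      obtain ⟨c, hc⟩ := hd u hu
      obtain ⟨d, hd'⟩ := hd v hv
      apply hinj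
      refine (MulAut.conj hh).injective ?_
      simp only [map_mul, MulAut.conj_apply]
      rw [hc, hd', ← map_mul, ← map_mul, mul_comm]
    obtain ⟨g', z, hz5, hz1, hz⟩ := exists_eigen hP hc hg s5_order hy hy5 hk
    refine no_five hq hE' hq5 (hι z) (hι g') ?_ ?_ ?_
    · rw [← map_pow, hz5, map_one]
    · rw [← map_one (emb4 Γ)]; exact fun e => hz1 (hinj e)
    · rw [← map_inv, ← map_mul, ← map_mul, hz, map_pow]

end Cfsg.Agent.AltAuto.D4
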