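import Cfsg.Agent.Lib.CoxTorus.Diag
import Cfsg.Agent.Lib.CoxTorus.Main
import Cfsg.Agent.Lib.SylHom.Conj
import Cfsg.Agent.Lib.Lie.TwField
import Mathlib.FieldTheory.Finite.Extension

/-! Automisers of diagonalisable subgroups of Chevalley groups act through Weyl matrices. -/

set_option autoImplicit false

namespace Cfsg.Agent.AltAuto

open Cfsg.Lie Cfsg.Agent.Chev Cfsg.Agent.Chev.Tab Cfsg.Agent.ChevAut Cfsg.Agent.CoxTorus Matrix
  Polynomial

variable {T : Tab}

/-- An extension with roots of unity. -/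
theorem exists_field {F : Type*} [Field F] [Fintype F] {d : ℕ} (hd : 0 < d) :
    ∃ (E : Type) (_ : Field E) (_ : Fintype E),
      Fintype.card E = Fintype.card F ^ d ∧ Nonempty (F →+* E) := by
  haveI : Finite F := Finite.of_fintype F
  obtain ⟨p, hp⟩ := CharP.exists F
  haveI : Fact p.Prime := ⟨CharP.char_is_prime F p⟩
  haveI : NeZero d := ⟨hd.ne'⟩
  let E := FiniteField.Extension F p d
  letI : Fintype E := Fintype.ofFinite E
  refine ⟨E, inferInstance, inferInstance, ?_, ⟨algebraMap F E⟩⟩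
  rw [← Nat.card_eq_fintype_card, FiniteField.natCard_extension, Nat.card_eq_fintype_card]

theorem dvd_pow_sub_one {q l d : ℕ} (hl : l.Prime) (hq : ¬ l ∣ q) (hd : l - 1 ∣ d) : l ∣ q ^ d - 1 := by
  haveI : Fact l.Prime := ⟨hl⟩
  have hq1 : 1 ≤ q := Nat.pos_of_ne_zero fun h => hq (h ▸ dvd_zero l)
  obtain ⟨k, rfl⟩ := hd
  rw [← ZMod.natCast_eq_zero_iff, Nat.cast_sub (Nat.one_le_pow _ _ hq1), Nat.cast_pow, Nat.cast_one,
    pow_mul, ZMod.pow_card_sub_one_eq_one (fun h => hq ((ZMod.natCast_eq_zero_iff q l).1 h)), one_pow,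
    sub_self]

section emb

variable (g : T.Good) {F E : Type*} [Field F] [Field E] (φ : F →+* E) (H : Subgroup ↥(T.D.group F))

/-- A subgroup over `F` inside the group over `E`. -/
noncomputable def emb : ↥H →* GL T.D.Idx E :=
  ((fieldMap T φ).comp (T.D.group F).subtype).comp H.subtype

theorem emb_inj : Function.Injective (emb φ H) :=
  (Units.map_injective (Matrix.map_injective φ.injective)).comp
    (Subtype.val_injective.comp H.subtype_injective)

include g in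
theorem emb_group : ∀ z, emb φ H z ∈ T.D.group E := by
  rintro ⟨⟨z, hz⟩, hz'⟩
  show fieldMap T φ z ∈ _
  clear hz'
  induction hz using Subgroup.closure_induction with
  | mem y hy =>
    obtain ⟨s, t, ht⟩ := hy
    rw [show y = xg g s t from eq_xg g (by rw [ht, ChevalleyDatum.x, dif_pos s.2]), fieldMap_xg]
    exact xg_mem_group _ _ _
  | one => simp [one_mem]
  | mul a b _ _ ha hb => rw [map_mul]; exact mul_mem ha hb
  | inv a _ ha => rw [map_inv]; exact inv_mem ha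

end emb

variable {E : Type*} [Field E] {Γ : Type*} [Group Γ]

/-- Diagonalisation of a group of prime power order inside a subgroup containing the torus. -/
theorem exists_diag_in (g : T.GoodA) [Fintype E] {r : ℕ} [Fact r.Prime] (hQ : r ∣ Fintype.card E - 1)
    (hW : ¬ r ∣ Nat.card (wG g.toGood)) {K : Subgroup (GL T.D.Idx E)} (hK : K ≤ T.D.group E)
    (hD : T.D.diagonalSubgroup E ≤ K) {R : Subgroup K} (hR : IsPGroup r R) :
    ∃ h ∈ K, ∀ y ∈ R, ∃ c, h * (y : GL T.D.Idx E) * h⁻¹ = tor T E c := by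
  classical
  have hr : r.Prime := Fact.out
  have hg := g.toGood
  haveI : Finite E := Finite.of_fintype E
  let G := T.D.group E
  let Dg := T.D.diagonalSubgroup E
  have hidxG : ¬ r ∣ Dg.relIndex G := by
    have h1 := (Dg.subgroupOf G).card_mul_index
    rw [Nat.card_congr (Subgroup.subgroupOfEquivOfLe (hD.trans hK)).toEquiv, card_group_eq g,
      card_borel g, mul_comm (Fintype.card E ^ T.N), mul_assoc] at h1
    rw [Subgroup.relIndex, Nat.eq_of_mul_eq_mul_left Nat.card_pos h1, ← ZMod.natCast_eq_zero_iff]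
    haveI : Fintype ↥(wG hg) := Fintype.ofFinite _
    have hQ1 : (Fintype.card E : ZMod r) = 1 := by
      have := (ZMod.natCast_eq_zero_iff (Fintype.card E - 1) r).2 hQ
      rwa [Nat.cast_sub Fintype.card_pos, Nat.cast_one, sub_eq_zero] at this
    simp only [Nat.cast_mul, Nat.cast_pow, hQ1, one_pow, one_mul, Nat.cast_sum, Finset.sum_const,
      Finset.card_univ, nsmul_eq_mul, mul_one]
    rw [ZMod.natCast_eq_zero_iff]
    convert hW using 2
    convert Nat.card_eq_fintype_card.symm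
  let D : Subgroup K := Dg.subgroupOf K
  have hidx : ¬ r ∣ D.index := fun h => hidxG
    (Subgroup.relIndex_mul_relIndex Dg K G hD hK ▸ dvd_mul_of_dvd_left h _)
  let P₀ : Sylow r D := default
  have hPidx : ¬ r ∣ ((P₀ : Subgroup D).map D.subtype).index := by
    rw [Subgroup.index_map_subtype]
    intro h
    rcases hr.dvd_mul.1 h with h | h
    · exact P₀.not_dvd_index' (fun h0 => Subgroup.index_ne_zero_of_finite h0) h
    · exact hidx h
  let P : Sylow r K := (P₀.isPGroup'.map D.subtype).toSylow hPidx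
  obtain ⟨Q, hQ'⟩ := hR.exists_le_sylow
  obtain ⟨h, hh⟩ := MulAction.exists_smul_eq K Q P
  refine ⟨h, h.2, fun y hy => ?_⟩
  have hmem : h * y * h⁻¹ ∈ (P : Subgroup K) := by
    rw [← hh, Sylow.smul_def, Sylow.pointwise_smul_def]
    exact ⟨_, hQ' hy, rfl⟩
  obtain ⟨z, -, hz⟩ : h * y * h⁻¹ ∈ (P₀ : Subgroup D).map D.subtype := hmem
  have hzD : ((z : K) : GL T.D.Idx E) ∈ Dg := z.2
  rw [show Dg = _ from diagonalSubgroup_eq hg] at hzD
  obtain ⟨c, hc⟩ := hzD
  exact ⟨c, (congrArg Subtype.val hz).symm.trans hc.symm⟩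

theorem diag_le (g : T.Good) : T.D.diagonalSubgroup E ≤ T.D.group E := by
  rw [diagonalSubgroup_eq g]
  rintro _ ⟨c, rfl⟩
  exact tor_mem_group g c

/-- Diagonalisation of one subgroup. -/
theorem exists_diag (g : T.GoodA) [Fintype E] (ι : Γ →* GL T.D.Idx E) (hι : ∀ x, ι x ∈ T.D.group E)
    {r : ℕ} [Fact r.Prime] (hQ : r ∣ Fintype.card E - 1) (hW : ¬ r ∣ Nat.card (wG g.toGood))
    {P : Subgroup Γ} (hP : IsPGroup r P) :
    ∃ h ∈ T.D.group E, ∀ y ∈ P, ∃ c, h * ι y * h⁻¹ = tor T E c := by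
  obtain ⟨h, hh, hdiag⟩ := exists_diag_in g hQ hW le_rfl (diag_le g.toGood) (hP.map (ι.codRestrict _ hι))
  exact ⟨h, hh, fun y hy => hdiag _ ⟨y, hy, rfl⟩⟩

/-- Diagonalisation of two commuting subgroups. -/
theorem exists_diag_pair (g : T.GoodA) [Fintype E] (ι : Γ →* GL T.D.Idx E) (hι : ∀ x, ι x ∈ T.D.group E)
    {a b : ℕ} [Fact a.Prime] [Fact b.Prime] (haQ : a ∣ Fintype.card E - 1)
    (haW : ¬ a ∣ Nat.card (wG g.toGood)) (hbQ : b ∣ Fintype.card E - 1)
    (hbW : ¬ b ∣ Nat.card (wG g.toGood)) {P R : Subgroup Γ} (hP : IsPGroup a P) (hR : IsPGroup b R)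
    (hc : ∀ y ∈ P, ∀ z ∈ R, z * y = y * z) :
    ∃ h ∈ T.D.group E, ∀ y ∈ P ⊔ R, ∃ c, h * ι y * h⁻¹ = tor T E c := by
  have hg := g.toGood
  obtain ⟨h₁, hh₁, hd₁⟩ := exists_diag g ι hι haQ haW hP
  let S : Set (GL T.D.Idx E) := (fun y => h₁ * ι y * h₁⁻¹) '' (P : Set Γ)
  let K : Subgroup (GL T.D.Idx E) := T.D.group E ⊓ Subgroup.centralizer S
  have hD : T.D.diagonalSubgroup E ≤ K := by
    refine le_inf (diag_le hg) ?_
    rw [diagonalSubgroup_eq hg]
    rintro _ ⟨e, rfl⟩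
    refine Subgroup.mem_centralizer_iff.2 ?_
    rintro _ ⟨y, hy, rfl⟩
    obtain ⟨c, hc⟩ := hd₁ y hy
    beta_reduce
    rw [hc, ← map_mul, ← map_mul, mul_comm]
  let c₁ : GL T.D.Idx E →* GL T.D.Idx E := (MulAut.conj h₁).toMonoidHom
  let f : R →* K := ((c₁.comp ι).comp R.subtype).codRestrict K fun z => by
    refine Subgroup.mem_inf.2 ⟨mul_mem (mul_mem hh₁ (hι _)) (inv_mem hh₁), Subgroup.mem_centralizer_iff.2 ?_⟩
    rintro _ ⟨y, hy, rfl⟩
    show c₁ (ι y) * c₁ (ι z) = c₁ (ι z) * c₁ (ι y)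
    rw [← map_mul, ← map_mul, ← map_mul, ← map_mul, hc y hy z z.2]
  obtain ⟨h₂, hh₂, hd₂⟩ := exists_diag_in g hbQ hbW (inf_le_left : K ≤ _) hD
    (IsPGroup.of_surjective hR f.rangeRestrict f.rangeRestrict_surjective)
  refine ⟨h₂ * h₁, mul_mem (Subgroup.mem_inf.1 hh₂).1 hh₁, ?_⟩
  have hle : P ⊔ R ≤ (tor T E).range.comap ((MulAut.conj (h₂ * h₁)).toMonoidHom.comp ι) := by
    refine sup_le (fun y hy => ?_) fun y hy => ?_
    · obtain ⟨c, hc⟩ := hd₁ y hy
      refine ⟨c, ?_⟩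
      show _ = h₂ * h₁ * ι y * (h₂ * h₁)⁻¹
      have e := Subgroup.mem_centralizer_iff.1 (Subgroup.mem_inf.1 hh₂).2 _ ⟨y, hy, rfl⟩
      beta_reduce at e
      rw [show h₂ * h₁ * ι y * (h₂ * h₁)⁻¹ = h₂ * (h₁ * ι y * h₁⁻¹) * h₂⁻¹ by group, ← e,
        mul_inv_cancel_right, hc]
    · obtain ⟨c, hc⟩ := hd₂ (f ⟨y, hy⟩) ⟨⟨y, hy⟩, rfl⟩
      refine ⟨c, ?_⟩
      show _ = h₂ * h₁ * ι y * (h₂ * h₁)⁻¹
      rw [← hc]
      show h₂ * (h₁ * ι y * h₁⁻¹) * h₂⁻¹ = _
      group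
  intro y hy
  obtain ⟨c, hc⟩ := hle hy
  exact ⟨c, hc.symm⟩

/-- Characters agreeing on the roots agree. -/
theorem chi_ext {M : List (List ℤ)} (hM : checkDual T 1 M = true) (g : T.Good) {A : Type*} [CommGroup A]
    {c c' : Fin T.l → A} {X X' : Matrix (Fin T.l) (Fin T.l) ℤ}
    (h : ∀ s < T.n, chi c (X *ᵥ avec T s) = chi c' (X' *ᵥ avec T s)) (x : Fin T.l → ℤ) :
    chi c (X *ᵥ x) = chi c' (X' *ᵥ x) := by
  have hs : x = ∑ j, x j • Pi.single j (1 : ℤ) := by
    funext i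
    simp [Finset.sum_apply, Pi.single_apply]
  rw [hs]
  simp only [mulVec_sum, mulVec_smul, chi_sum, chi_smul]
  refine Finset.prod_congr rfl fun j _ => ?_
  congr 1
  rw [(one_zsmul _).symm.trans (single_eq_sum hM j)]
  simp only [mulVec_sum, mulVec_smul, chi_sum, chi_smul]
  exact Finset.prod_congr rfl fun i _ => by rw [h _ (g.smp_lt i.2)]

/-- An element normalising a diagonalised subgroup satisfies the polynomials of a Weyl matrix. -/
theorem exists_word_poly (g : T.GoodA) {M : List (List ℤ)} (hM : checkDual T 1 M = true)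
    {ι : Γ →* GL T.D.Idx E} (hinj : Function.Injective ι) (hι : ∀ x, ι x ∈ T.D.group E)
    {A : Subgroup Γ} {h : GL T.D.Idx E} (hh : h ∈ T.D.group E)
    (hA : ∀ y ∈ A, ∃ c, h * ι y * h⁻¹ = tor T E c) {x : Γ} (hx : ∀ y ∈ A, x * y * x⁻¹ ∈ A) :
    ∃ L, T.Wd L ∧
      (∀ N : ℕ, wmat T L ^ N = 1 → ∀ y ∈ A, x ^ N * y = y * x ^ N) ∧
      ∀ {Q : Type} [Group Q] (π : Γ →* Q) {y : Γ}, y ∈ A → ∀ {k : ℤ},
        π x * π y * (π x)⁻¹ = π y ^ k →
        ∀ p : ℤ[X], aeval (wmat T L) p = 0 → π y ^ p.eval k = 1 := by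
  have hg := g.toGood
  set m := h * ι x * h⁻¹ with hm
  obtain ⟨L, hL, hword⟩ := SylHom.exists_word g (m := m) (mul_mem (mul_mem hh (hι x)) (inv_mem hh))
  refine ⟨L.reverse, hL.reverse, ?_⟩
  -- one step
  have hstep : ∀ z ∈ A, ∀ c c', h * ι z * h⁻¹ = tor T E c → h * ι (x * z * x⁻¹) * h⁻¹ = tor T E c' →
      ∀ v, chi (fun j : Fin T.l => c' j) v = chi (fun j : Fin T.l => c j) (wmat T L.reverse *ᵥ v) := by
    intro z hz c c' hc hc' v
    have hn := hword c c' (by rw [← hc, ← hc', map_mul, map_mul, map_inv, hm]; group)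
    have h2 := chi_ext hM hg (X := 1) (X' := wmat T L.reverse) (c := fun j : Fin T.l => c' j)
      (c' := fun j : Fin T.l => c j) (fun s hs => by
        have h1 := wt_of_conj hg hL hn (rw'_lt hg hL.reverse hs)
        rw [rw'_rev' hg hL hs] at h1
        rw [one_mulVec, wmat_avec hg hL.reverse hs, ← wt_eq_chi, ← wt_eq_chi, h1]) v
    rwa [one_mulVec] at h2
  refine ⟨fun N₀ hN₀ y hy => ?_, fun π y hy k hk p hp => ?_⟩
  · obtain ⟨c₀, hc₀⟩ := hA y hy
    have hiter : ∀ i : ℕ, x ^ i * y * (x ^ i)⁻¹ ∈ A ∧ ∃ c, h * ι (x ^ i * y * (x ^ i)⁻¹) * h⁻¹ = tor T E c ∧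
        ∀ v, chi (fun j : Fin T.l => c j) v = chi (fun j : Fin T.l => c₀ j) ((wmat T L.reverse) ^ i *ᵥ v) := by
      intro i
      induction i with
      | zero => simp only [pow_zero, one_mul, inv_one, mul_one, one_mulVec]
                exact ⟨hy, c₀, hc₀, fun v => rfl⟩
      | succ i ih =>
        obtain ⟨hz, c, hc, f⟩ := ih
        have e : x ^ (i + 1) * y * (x ^ (i + 1))⁻¹ = x * (x ^ i * y * (x ^ i)⁻¹) * x⁻¹ := by
          rw [pow_succ']; group
        rw [e]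
        obtain ⟨c', hc'⟩ := hA _ (hx _ hz)
        refine ⟨hx _ hz, c', hc', fun v => ?_⟩
        rw [hstep _ hz c c' hc hc', f, mulVec_mulVec, ← pow_succ]
    obtain ⟨-, c, hc, f⟩ := hiter N₀
    have e : x ^ N₀ * y * (x ^ N₀)⁻¹ = y := by
      apply hinj
      refine mul_left_cancel (a := h) (mul_right_cancel (b := h⁻¹) ?_)
      rw [hc, hc₀]
      refine tor_congr hg fun j hj => ?_
      have := f (Pi.single ⟨j, hj⟩ 1)
      rwa [hN₀, one_mulVec, chi_single, chi_single] at this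
    exact mul_inv_eq_iff_eq_mul.1 e
  set N := wmat T L.reverse
  obtain ⟨c₀, hc₀⟩ := hA y hy
  -- all polynomials
  have key : ∀ p : ℤ[X], ∃ z ∈ A, ∃ c, h * ι z * h⁻¹ = tor T E c ∧ π z = π y ^ p.eval k ∧
      ∀ v, chi (fun j : Fin T.l => c j) v = chi (fun j : Fin T.l => c₀ j) (aeval N p *ᵥ v) := by
    intro p
    induction p using Polynomial.induction_on' with
    | add p₁ p₂ h₁ h₂ =>
      obtain ⟨z₁, hz₁, c₁, hc₁, e₁, f₁⟩ := h₁
      obtain ⟨z₂, hz₂, c₂, hc₂, e₂, f₂⟩ := h₂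
      refine ⟨z₁ * z₂, mul_mem hz₁ hz₂, c₁ * c₂, ?_, ?_, fun v => ?_⟩
      · rw [map_mul, map_mul, ← hc₁, ← hc₂]; group
      · rw [map_mul, e₁, e₂, eval_add, _root_.zpow_add]
      · rw [map_add, add_mulVec, chi_add, ← f₁, ← f₂, ← chi_mul]
        rfl
    | monomial i a =>
      induction i with
      | zero =>
        refine ⟨y ^ a, zpow_mem hy a, c₀ ^ a, ?_, ?_, fun v => ?_⟩
        · rw [map_zpow, map_zpow, ← hc₀, conj_zpow]
        · rw [map_zpow, monomial_zero_left, eval_C]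
        · rw [monomial_zero_left, aeval_C, Algebra.algebraMap_eq_smul_one, smul_mulVec, one_mulVec, chi_smul]
          simp only [chi, Pi.pow_apply, ← Finset.prod_zpow]
          exact Finset.prod_congr rfl fun j _ => by rw [← _root_.zpow_mul, ← _root_.zpow_mul, mul_comm]
      | succ i ih =>
        obtain ⟨z, hz, c, hc, e, f⟩ := ih
        obtain ⟨c', hc'⟩ := hA _ (hx z hz)
        refine ⟨x * z * x⁻¹, hx z hz, c', hc', ?_, fun v => ?_⟩
        · rw [map_mul, map_mul, map_inv, e, ← conj_zpow, hk, ← _root_.zpow_mul,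
            show monomial (i + 1) a = Polynomial.X * monomial i a from (X_mul_monomial i a).symm, eval_mul, eval_X]
        · rw [hstep z hz c c' hc hc', f, mulVec_mulVec,
            show monomial (i + 1) a = monomial i a * Polynomial.X from (monomial_mul_X i a).symm, map_mul,
            aeval_X]
  obtain ⟨z, -, c, hc, e, f⟩ := key p
  have hz : z = 1 := by
    apply hinj
    rw [map_one, ← conj_eq_one_iff (a := h), hc, ← map_one (tor T E)]
    refine tor_congr hg fun j hj => ?_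
    have := f (Pi.single ⟨j, hj⟩ 1)
    rwa [hp, zero_mulVec, chi_zero, chi_single] at this
  rw [← e, hz, map_one]

end Cfsg.Agent.AltAuto
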