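import Cfsg.Agent.Lib.AltAuto.Lift
import Cfsg.Agent.Lib.AltAuto.Geom
import Cfsg.Agent.Lib.F4Graph.Main

/-! Alternating sections of F4. -/

set_option autoImplicit false
set_option maxRecDepth 20000

namespace Cfsg.Agent.AltAuto

open Cfsg.Lie Cfsg.Agent.Chev Cfsg.Agent.Chev.Tab Cfsg.Agent.ChevAut Cfsg.Agent.CoxTorus Matrix
  Polynomial

universe u

/-- A permutation from two mutually inverse tables. -/
def permOf {n : ℕ} (f f' : Fin n → Fin n) (h : ∀ i, f' (f i) = i ∧ f (f' i) = i) : Equiv.Perm (Fin n) :=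
  ⟨f, f', fun i => (h i).1, fun i => (h i).2⟩

/-- An 11-cycle. -/
def c11 : ↥(alternatingGroup (Fin 11)) :=
  ⟨permOf (fun i => i + 1) (fun i => i - 1) (by decide), Equiv.Perm.mem_alternatingGroup.2 (by decide +kernel)⟩

/-- Multiplication by three. -/
def m11 : ↥(alternatingGroup (Fin 11)) :=
  ⟨permOf (fun i => 3 * i) (fun i => 4 * i) (by decide), Equiv.Perm.mem_alternatingGroup.2 (by decide +kernel)⟩

/-- A 5-cycle. -/
def c5 : ↥(alternatingGroup (Fin 12)) :=
  ⟨permOf ![1, 2, 3, 4, 0, 5, 6, 7, 8, 9, 10, 11] ![4, 0, 1, 2, 3, 5, 6, 7, 8, 9, 10, 11] (by decide),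
    Equiv.Perm.mem_alternatingGroup.2 (by decide +kernel)⟩

/-- A 7-cycle. -/
def c7 : ↥(alternatingGroup (Fin 12)) :=
  ⟨permOf ![0, 1, 2, 3, 4, 6, 7, 8, 9, 10, 11, 5] ![0, 1, 2, 3, 4, 11, 5, 6, 7, 8, 9, 10] (by decide),
    Equiv.Perm.mem_alternatingGroup.2 (by decide +kernel)⟩

/-- An element of order 12 normalising both cycles. -/
def m57 : ↥(alternatingGroup (Fin 12)) :=
  ⟨permOf ![0, 2, 4, 1, 3, 5, 8, 11, 7, 10, 6, 9] ![0, 3, 1, 4, 2, 5, 10, 8, 6, 11, 9, 7] (by decide),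
    Equiv.Perm.mem_alternatingGroup.2 (by decide +kernel)⟩

theorem c11_order : orderOf c11 = 11 := by
  haveI : Fact (Nat.Prime 11) := ⟨by norm_num⟩
  exact orderOf_eq_prime (by decide +kernel) (by decide +kernel)

theorem c5_order : orderOf c5 = 5 := by
  haveI : Fact (Nat.Prime 5) := ⟨by norm_num⟩
  exact orderOf_eq_prime (by decide +kernel) (by decide +kernel)

theorem c7_order : orderOf c7 = 7 := by
  haveI : Fact (Nat.Prime 7) := ⟨by norm_num⟩
  exact orderOf_eq_prime (by decide +kernel) (by decide +kernel)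

theorem m11_conj : m11 * c11 * m11⁻¹ = c11 ^ 3 := by decide +kernel
theorem m57_conj5 : m57 * c5 * m57⁻¹ = c5 ^ 2 := by decide +kernel
theorem m57_conj7 : m57 * c7 * m57⁻¹ = c7 ^ 3 := by decide +kernel
theorem comm57 : Commute c5 c7 := show c5 * c7 = c7 * c5 by decide +kernel

theorem not_dvd_11 : ¬ (11 : ℤ) ∣ 3 ^ 1152 - 1 := by decide +kernel

local notation "l4" => F4Data.tab.l

theorem wmat_pow_1152 {L : List ℕ} (hL : F4Data.tab.Wd L) : wmat F4Data.tab L ^ 1152 = 1 := by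
  rw [← F4Graph.cardW]
  exact F4Graph.wmat_pow_W hL

theorem cyclo_dvd_of_root {l q k : ℕ} [Fact l.Prime] (hl : ¬ l ∣ 1152) (hq : IsPrimitiveRoot (q : ZMod l) k)
    {L : List ℕ} (hL : F4Data.tab.Wd L) (h : (l : ℤ) ∣ (wmat F4Data.tab L).charpoly.eval (q : ℤ)) :
    cyclotomic k ℤ ∣ (wmat F4Data.tab L).charpoly := by
  refine SylHom.cyclotomic_dvd_of_root (by norm_num) hl hq _ le_rfl (charpoly_monic _) (fun z hz => ?_) ?_
  · have := eigen_eval (A := wmat F4Data.tab L) hz (p := Polynomial.X ^ 1152 - 1)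
      (by rw [map_sub, map_pow, aeval_X, map_one, wmat_pow_1152 hL, sub_self])
    simpa [sub_eq_zero] using this
  · rw [← map_natCast (Int.castRingHom (ZMod l)) q, eval_map, eval₂_at_apply, eq_intCast,
      ZMod.intCast_zmod_eq_zero_iff_dvd]
    exact h

theorem prim5 : IsPrimitiveRoot ((2 : ℕ) : ZMod 5) 4 :=
  (IsPrimitiveRoot.iff (by norm_num)).2 ⟨by decide, fun l h0 hl => by interval_cases l <;> decide⟩

theorem prim7 : IsPrimitiveRoot ((3 : ℕ) : ZMod 7) 6 :=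
  (IsPrimitiveRoot.iff (by norm_num)).2 ⟨by decide, fun l h0 hl => by interval_cases l <;> decide⟩

/-- The bound. -/
theorem f4_bound {F : Type u} [Field F] [Fintype F] (p : ℕ) [Fact p.Prime] [CharP F p]
    (r : ℕ) (H : Subgroup ↥(F4Data.tab.D.group F)) (K : Subgroup ↥H) [K.Normal]
    (h : Nonempty (↥H ⧸ K ≃* ↥(alternatingGroup (Fin r)))) :
    r ≤ 10 + (if p = 11 then 1 else 0) := by
  classical
  haveI : Finite F := Finite.of_fintype F
  have hg := F4Graph.gA.toGood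
  obtain ⟨n, hp, hn⟩ := FiniteField.card F p
  have hndvd : ∀ l : ℕ, l.Prime → l ≠ p → ¬ l ∣ Fintype.card F := fun l hl hne hd =>
    hne ((Nat.prime_dvd_prime_iff_eq hl hp).1 (hl.dvd_of_dvd_pow (hn ▸ hd)))
  by_contra hr
  by_cases h11 : p = 11
  · -- orders five and seven
    rw [if_pos h11] at hr
    obtain ⟨Γ, π, hπ⟩ := exists_restrict h (m := 12) (by omega)
    haveI : Fact (Nat.Prime 5) := ⟨by norm_num⟩
    haveI : Fact (Nat.Prime 7) := ⟨by norm_num⟩
    obtain ⟨E, _, _, hE, ⟨φ⟩⟩ := exists_field (F := F) (d := 12) (by norm_num)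
    have h5 : 5 ∣ Fintype.card E - 1 := hE ▸ dvd_pow_sub_one (by norm_num) (hndvd 5 (by norm_num) (by omega)) (by norm_num)
    have h7 : 7 ∣ Fintype.card E - 1 := hE ▸ dvd_pow_sub_one (by norm_num) (hndvd 7 (by norm_num) (by omega)) (by norm_num)
    have hW5 := F4Graph.not_dvd_cardW (r := 5) (by norm_num) le_rfl
    have hW7 := F4Graph.not_dvd_cardW (r := 7) (by norm_num) (by norm_num)
    let ι := emb φ Γ
    have hι := emb_group hg φ Γ
    obtain ⟨P, R, x, hP, hR, hPR, hxP, hxR, ⟨y, hy, hy5⟩, ⟨z, hz, hz7⟩, hk5, hk7⟩ :=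
      exists_pair (a := 5) (b := 7) (N := 1152) (by norm_num) (by norm_num) hπ (fun P x hP hx y hy => by
        obtain ⟨h, hh, hd⟩ := exists_diag F4Graph.gA ι hι h5 hW5 hP
        obtain ⟨L, hL, hcen, -⟩ := exists_word_poly F4Graph.gA CoxTorus.F4.dualOK (emb_inj φ Γ) hι hh hd hx
        exact hcen 1152 (wmat_pow_1152 hL) y hy) c5_order c7_order comm57 m57_conj5 m57_conj7
    obtain ⟨h, hh, hd⟩ := exists_diag_pair F4Graph.gA ι hι h5 hW5 h7 hW7 hP hR hPR
    have hA : ∀ w ∈ P ⊔ R, x * w * x⁻¹ ∈ P ⊔ R := by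
      have : P ⊔ R ≤ (P ⊔ R).comap (MulAut.conj x).toMonoidHom :=
        sup_le (fun w hw => Subgroup.mem_sup_left (hxP w hw)) fun w hw => Subgroup.mem_sup_right (hxR w hw)
      exact fun w hw => this hw
    obtain ⟨L, hL, -, hpoly⟩ := exists_word_poly F4Graph.gA CoxTorus.F4.dualOK (emb_inj φ Γ) hι hh hd hA
    have e5 := hpoly π (Subgroup.mem_sup_left hy) (k := ((2 : ℕ) : ℤ))
      (by rw [hy5, hk5, zpow_natCast]) _ (aeval_self_charpoly _)
    have e7 := hpoly π (Subgroup.mem_sup_right hz) (k := ((3 : ℕ) : ℤ))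
      (by rw [hz7, hk7, zpow_natCast]) _ (aeval_self_charpoly _)
    rw [hy5, ← orderOf_dvd_iff_zpow_eq_one, c5_order] at e5
    rw [hz7, ← orderOf_dvd_iff_zpow_eq_one, c7_order] at e7
    have d4 := cyclo_dvd_of_root (l := 5) (k := 4) (by norm_num) prim5 hL e5
    have d6 := cyclo_dvd_of_root (l := 7) (k := 6) (by norm_num) prim7 hL e7
    have hd := F4Graph.mul_dvd_of_distinct (by norm_num) (by norm_num) (by decide +kernel) d4 d6
    refine F4Graph.product_excluded (k := 4) (l := 6) (by norm_num) hL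
      (eq_of_monic_of_dvd_of_natDegree_le ((cyclotomic.monic 4 ℤ).mul (cyclotomic.monic 6 ℤ))
        (charpoly_monic _) hd ?_)
    rw [natDegree_mul (cyclotomic_ne_zero 4 ℤ) (cyclotomic_ne_zero 6 ℤ), natDegree_cyclotomic,
      natDegree_cyclotomic, charpoly_natDegree_eq_dim, Fintype.card_fin, F4Graph.four_eq]
    decide +kernel
  · -- order eleven
    rw [if_neg h11] at hr
    obtain ⟨Γ, π, hπ⟩ := exists_restrict h (m := 11) (by omega)
    haveI : Fact (Nat.Prime 11) := ⟨by norm_num⟩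
    obtain ⟨E, _, _, hE, ⟨φ⟩⟩ := exists_field (F := F) (d := 10) (by norm_num)
    have hQ : 11 ∣ Fintype.card E - 1 := hE ▸ dvd_pow_sub_one (by norm_num) (hndvd 11 (by norm_num) (Ne.symm h11)) (by norm_num)
    have hW := F4Graph.not_dvd_cardW (r := 11) (by norm_num) (by norm_num)
    obtain ⟨P, x, hP, hx, ⟨y, hy, hy11⟩, hk⟩ := exists_single hπ c11_order m11_conj
    obtain ⟨h, hh, hd⟩ := exists_diag F4Graph.gA (emb φ Γ) (emb_group hg φ Γ) hQ hW hP
    obtain ⟨L, hL, -, hpoly⟩ := exists_word_poly F4Graph.gA CoxTorus.F4.dualOK (emb_inj φ Γ)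
      (emb_group hg φ Γ) hh hd hx
    have e := hpoly π hy (k := ((3 : ℕ) : ℤ)) (by rw [hy11, hk, zpow_natCast]) (Polynomial.X ^ 1152 - 1)
      (by rw [map_sub, map_pow, aeval_X, map_one, wmat_pow_1152 hL, sub_self])
    rw [hy11, ← orderOf_dvd_iff_zpow_eq_one, c11_order, eval_sub, eval_pow, eval_X, eval_one] at e
    exact not_dvd_11 (by exact_mod_cast e)

end Cfsg.Agent.AltAuto
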