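import Cfsg.Agent.Lib.AltAuto.Geom
import Cfsg.Agent.Lib.F4Graph.Weyl
import Cfsg.Agent.Lib.Lie.OrderG2
import Cfsg.Agent.Lib.Lie.ChevCoxeter
import Cfsg.Agent.Lib.G2Torus.Roots
import Cfsg.Agent.Lib.FiniteGroup.FrattiniAut
import Mathlib.RingTheory.RootsOfUnity.Basic

/-! Monomial three-subgroups of G2. -/

set_option autoImplicit false
set_option maxRecDepth 20000

namespace Cfsg.Agent.AltAuto.G2

open Cfsg.Lie Cfsg.Agent.Chev Cfsg.Agent.Chev.Tab Cfsg.Agent.ChevAut Cfsg.Agent.CoxTorus Matrix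

local notation "T2" => G2Data.tab

theorem gA2 : (T2).GoodA := G2Torus.gA

theorem good2 : (T2).Good := gA2.toGood

/-- The inverse Cartan matrix. -/
def dualM : List (List ℤ) := [[2, 1], [3, 2]]

theorem dualOK : checkDual T2 1 dualM = true := by decide +kernel

/-- The words of the elements of the Weyl group. -/
def allWords : List (List ℕ) :=
  G2Data.reps1.flatMap fun b => G2Data.reps0.map fun a => a.word ++ b.word

theorem exists_word_eq {L : List ℕ} (hL : (T2).Wd L) :
    ∃ L₀ ∈ allWords, (T2).Wd L₀ ∧ pL good2 L = pL good2 L₀ := by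
  have hl : (T2).l = 2 := by decide +kernel
  have hJ : ∀ i ∈ L, i ∈ [1, 0] := fun i hi => by
    have : i < 2 := hl ▸ hL i hi
    interval_cases i <;> simp
  obtain ⟨u1, h1, w1, b, hb, wb, e1⟩ := F4Graph.step_words good2 G2Data.step1 L hJ
  obtain ⟨u0, h0, w0, a, ha, wa, e0⟩ := F4Graph.step_words good2 G2Data.step0 u1 h1
  obtain rfl : u0 = [] := List.eq_nil_iff_forall_not_mem.2 fun i hi => List.not_mem_nil (h0 i hi)
  refine ⟨a.word ++ b.word, ?_, Wd.append_iff.2 ⟨wa, wb⟩, ?_⟩
  · simp only [allWords, List.mem_flatMap, List.mem_map]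
    exact ⟨b, hb, a, ha, rfl⟩
  · rw [e1, pL_append _ u1, e0, List.nil_append, ← pL_append]

theorem six_words : allWords.all (fun L => listBeq ((T2).keyL (rep 6 L)) ((T2).keyL [])) = true := by
  decide +kernel

theorem cube_words : allWords.all (fun L =>
    !listBeq ((T2).keyL (rep 3 L)) ((T2).keyL []) ||
      (listBeq ((T2).keyL L) ((T2).keyL []) || (listBeq L [1, 0, 1, 0] || listBeq L [0, 1, 0, 1]))) = true := by
  decide +kernel

theorem pL_of_key {A B : List ℕ} (hA : (T2).Wd A) (hB : (T2).Wd B)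
    (h : listBeq ((T2).keyL A) ((T2).keyL B) = true) : pL good2 A = pL good2 B :=
  pL_eq_of_simple good2 hA hB (keyL_eq.1 (listBeq_iff.1 h))

theorem key_of_pL {A B : List ℕ} (hA : (T2).Wd A) (hB : (T2).Wd B) (h : pL good2 A = pL good2 B) :
    listBeq ((T2).keyL A) ((T2).keyL B) = true := by
  rw [listBeq_iff, keyL_eq]
  exact fun i hi => (pL_eq_iff good2 hA hB).1 h _ (good2.smp_lt hi)

theorem wd_nil : (T2).Wd [] := by simp [Wd]

theorem wmat_six {L : List ℕ} (hL : (T2).Wd L) : wmat T2 L ^ 6 = 1 := by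
  obtain ⟨L₀, hL₀, hW₀, e⟩ := exists_word_eq hL
  rw [← wmat_rep, ← wmat_nil]
  refine wmat_congr good2 ⟨1, one_pos, dualOK⟩ (rep_wd hL 6) wd_nil ?_
  rw [← pL_eq_iff good2 (rep_wd hL 6) wd_nil, pL_rep, e, ← pL_rep,
    pL_of_key (rep_wd hW₀ 6) wd_nil (List.all_eq_true.1 six_words L₀ hL₀)]

/-- The rotations of order three. -/
def rots : List (List ℕ) := [[1, 0, 1, 0], [0, 1, 0, 1]]

theorem rots_wd {R : List ℕ} (hR : R ∈ rots) : (T2).Wd R := by
  have hl : (T2).l = 2 := by decide +kernel
  intro i hi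
  rw [hl]
  simp only [rots, List.mem_cons, List.not_mem_nil, or_false] at hR
  rcases hR with rfl | rfl <;> simp at hi <;> omega

theorem of_cube {L : List ℕ} (hL : (T2).Wd L) (h : pL good2 L ^ 3 = 1) :
    pL good2 L = 1 ∨ ∃ R ∈ rots, pL good2 L = pL good2 R := by
  obtain ⟨L₀, hL₀, hW₀, e⟩ := exists_word_eq hL
  rw [e, ← pL_rep, ← pL_nil good2] at h
  have h1 := key_of_pL (rep_wd hW₀ 3) wd_nil h
  have h2 := List.all_eq_true.1 cube_words L₀ hL₀
  simp only [h1, Bool.not_true, Bool.false_or, Bool.or_eq_true] at h2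
  rcases h2 with h2 | h2 | h2
  · left; rw [e, pL_of_key hW₀ wd_nil h2, pL_nil]
  · right; exact ⟨L₀, by rw [listBeq_iff.1 h2]; simp [rots], e⟩
  · right; exact ⟨L₀, by rw [listBeq_iff.1 h2]; simp [rots], e⟩

/-- The long roots. -/
def longs : List ℕ := [0, 1, 5, 6, 10, 11]

theorem long_diff : ∀ R ∈ rots, ∀ s ∈ longs, ∃ u ∈ List.range 12,
    (T2).A 0 s + (T2).A 0 ((T2).rw' R u) = (T2).A 0 u ∧
      (T2).A 1 s + (T2).A 1 ((T2).rw' R u) = (T2).A 1 u := by
  decide +kernel

theorem short_sum : ∀ R ∈ rots,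
    (T2).A 0 7 + (T2).A 0 ((T2).rw' R 7) + (T2).A 0 ((T2).rw' R ((T2).rw' R 7)) = 0 ∧
      (T2).A 1 7 + (T2).A 1 ((T2).rw' R 7) + (T2).A 1 ((T2).rw' R ((T2).rw' R 7)) = 0 := by
  decide +kernel

theorem orbit_reps : ∀ R ∈ rots, ∀ s ∈ List.range 12, ∃ r ∈ List.range 4,
    s = r ∨ s = (T2).rw' R r ∨ s = (T2).rw' R ((T2).rw' R r) := by
  decide +kernel

theorem tab_facts : (T2).n = 12 ∧ (T2).l = 2 ∧ (T2).smp 0 = 7 ∧ (T2).smp 1 = 6 := by decide +kernel

theorem cardW : Nat.card ↥(wG good2) = 12 := by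
  have h : ((Nat.card ↥(wG good2) : ℕ) : ℤ) = 12 := by
    rw [card_wG good2 G2Data.chainOK]
    decide +kernel
  exact_mod_cast h

variable {E : Type*} [Field E]

theorem avec_ext {u v : Fin (T2).l → ℤ} (h0 : u ⟨0, by decide +kernel⟩ = v ⟨0, by decide +kernel⟩)
    (h1 : u ⟨1, by decide +kernel⟩ = v ⟨1, by decide +kernel⟩) : u = v := by
  funext j
  obtain ⟨j, hj⟩ := j
  have : j < 2 := tab_facts.2.1 ▸ hj
  interval_cases j
  · exact h0
  · exact h1

/-- Weights invariant under a rotation. -/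
theorem wt_long {R : List ℕ} (hR : R ∈ rots) {c : ℕ → Eˣ}
    (hc : ∀ s < 12, wt T2 E c ((T2).rw' R s) = wt T2 E c s) {s : ℕ} (hs : s ∈ longs) :
    wt T2 E c s = 1 := by
  obtain ⟨u, hu, e0, e1⟩ := long_diff R hR s hs
  have e : avec T2 s + avec T2 ((T2).rw' R u) = avec T2 u := avec_ext e0 e1
  have h := hc u (List.mem_range.1 hu)
  simp only [wt_eq_chi] at h ⊢
  rw [← e, chi_add] at h
  exact mul_eq_right.1 h.symm

theorem wt_short {R : List ℕ} (hR : R ∈ rots) {c : ℕ → Eˣ}
    (hc : ∀ s < 12, wt T2 E c ((T2).rw' R s) = wt T2 E c s) : wt T2 E c 7 ^ 3 = 1 := by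
  obtain ⟨e0, e1⟩ := short_sum R hR
  have hW := rots_wd hR
  have hlt : (T2).rw' R 7 < 12 := tab_facts.1 ▸ rw'_lt good2 hW (by rw [tab_facts.1]; norm_num)
  have e : avec T2 7 + avec T2 ((T2).rw' R 7) + avec T2 ((T2).rw' R ((T2).rw' R 7)) = 0 :=
    avec_ext e0 e1
  have h1 := hc 7 (by norm_num)
  have h2 := hc _ hlt
  simp only [wt_eq_chi] at h1 h2 ⊢
  have h := congrArg (chi fun j : Fin (T2).l => c j) e
  rw [chi_add, chi_add, chi_zero, h2, h1] at h
  rw [pow_succ, pow_two, h]

theorem tor_eq_of_fixed {R : List ℕ} (hR : R ∈ rots) {c d : ℕ → Eˣ}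
    (hc : ∀ s < 12, wt T2 E c ((T2).rw' R s) = wt T2 E c s)
    (hd : ∀ s < 12, wt T2 E d ((T2).rw' R s) = wt T2 E d s)
    (h : wt T2 E c 7 = wt T2 E d 7) : tor T2 E c = tor T2 E d := by
  rw [tor_eq_iff_wt good2]
  intro i hi
  rw [tab_facts.2.1] at hi
  have key : ∀ s, wt T2 E c s = wt T2 E d s → wt T2 E (c / d) s = 1 := fun s hs => by
    have h1 := wt_mul (T := T2) (F := E) (c / d) d s
    rw [div_mul_cancel, hs] at h1
    exact mul_eq_right.1 h1.symm
  interval_cases i
  · exact key _ (by rw [tab_facts.2.2.1, h])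
  · exact key _ (by rw [tab_facts.2.2.2, wt_long hR hc (s := 6) (by decide), wt_long hR hd (s := 6) (by decide)])

variable [Fintype E]

theorem card_cube_roots : Nat.card {x : Eˣ // x ^ 3 = 1} ≤ 3 := by
  rw [show Nat.card {x : Eˣ // x ^ 3 = 1} = Nat.card (rootsOfUnity 3 E) from
    Nat.card_congr (Equiv.subtypeEquivRight fun x => (mem_rootsOfUnity 3 x).symm)]
  exact card_rootsOfUnity E 3

section mono

variable {Γ : Type*} [Group Γ]

/-- Conjugating a three-subgroup into the monomial subgroup. -/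
theorem exists_mono (hQ : 9 ∣ Fintype.card E - 1) (ι : Γ →* GL (T2).D.Idx E)
    (hι : ∀ x, ι x ∈ (T2).D.group E) {P : Subgroup Γ} (hP : IsPGroup 3 P) :
    ∃ h ∈ (T2).D.group E, ∀ y ∈ P, h * ι y * h⁻¹ ∈ (T2).D.monomialSubgroup E := by
  classical
  haveI : Fact (Nat.Prime 3) := ⟨by norm_num⟩
  haveI : Finite E := Finite.of_fintype E
  haveI : Fintype ↥(wG good2) := Fintype.ofFinite _
  let G := (T2).D.group E
  let N := (T2).D.monomialSubgroup E
  let D := (T2).D.diagonalSubgroup E
  have hNG : N ≤ G := monomial_le_group good2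
  have hDN : D ≤ N := by
    rw [show D = _ from diagonalSubgroup_eq good2]
    rintro _ ⟨c, rfl⟩
    exact torus_le_monomial good2 c
  have hcN : Nat.card N = Nat.card D * 12 := by
    have h1 := (toPerm good2 (F := E)).ker.card_mul_index
    rw [Subgroup.index_ker, toPerm_range, cardW, toPerm_ker,
      Nat.card_congr (Subgroup.subgroupOfEquivOfLe hDN).toEquiv] at h1
    exact h1.symm
  have hidx : ¬ 3 ∣ (N.subgroupOf G).index := by
    have h1 := (N.subgroupOf G).card_mul_index
    rw [Nat.card_congr (Subgroup.subgroupOfEquivOfLe hNG).toEquiv, hcN, card_group_eq gA2,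
      card_borel gA2, mul_comm (Fintype.card E ^ (T2).N), mul_assoc, mul_assoc] at h1
    have h2 := Nat.eq_of_mul_eq_mul_left (Nat.card_pos (α := D)) h1
    rintro ⟨k, hk⟩
    have hQ1 : (Fintype.card E : ZMod 9) = 1 := by
      have := (ZMod.natCast_eq_zero_iff (Fintype.card E - 1) 9).2 hQ
      rwa [Nat.cast_sub Fintype.card_pos, Nat.cast_one, sub_eq_zero] at this
    have h3 := congrArg (Nat.cast : ℕ → ZMod 9) h2
    simp only [Nat.cast_mul, Nat.cast_pow, hQ1, one_pow, one_mul, Nat.cast_sum, Finset.sum_const,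
      Finset.card_univ, nsmul_eq_mul, mul_one, hk] at h3
    have hW12 : ∀ (g : (T2).Good) (i : Fintype ↥(wG g)), @Fintype.card _ i = 12 := by
      intro g i
      rw [← Nat.card_eq_fintype_card]
      exact cardW
    rw [hW12] at h3
    rw [show ((12 : ℕ) : ZMod 9) * (((3 : ℕ) : ZMod 9) * k) =
      ((36 : ℕ) : ZMod 9) * k by push_cast; ring] at h3
    rw [(ZMod.natCast_eq_zero_iff 36 9).2 (by norm_num), zero_mul] at h3
    exact absurd ((ZMod.natCast_eq_zero_iff 12 9).1 h3.symm) (by norm_num)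
  let N' : Subgroup G := N.subgroupOf G
  let P₀ : Sylow 3 N' := default
  have hPidx : ¬ 3 ∣ ((P₀ : Subgroup N').map N'.subtype).index := by
    rw [Subgroup.index_map_subtype]
    intro h
    rcases (Nat.prime_three.dvd_mul).1 h with h | h
    · exact P₀.not_dvd_index' (fun h0 => Subgroup.index_ne_zero_of_finite h0) h
    · exact hidx h
  let PG : Sylow 3 G := (P₀.isPGroup'.map N'.subtype).toSylow hPidx
  obtain ⟨Q, hQ'⟩ := (hP.map (ι.codRestrict G hι)).exists_le_sylow
  obtain ⟨h, hh⟩ := MulAction.exists_smul_eq G Q PG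
  refine ⟨h, h.2, fun y hy => ?_⟩
  have hmem : h * (ι.codRestrict G hι y) * h⁻¹ ∈ (PG : Subgroup G) := by
    rw [← hh, Sylow.smul_def, Sylow.pointwise_smul_def]
    exact ⟨_, hQ' ⟨y, hy, rfl⟩, rfl⟩
  obtain ⟨z, -, hz⟩ : h * (ι.codRestrict G hι y) * h⁻¹ ∈ (P₀ : Subgroup N').map N'.subtype := hmem
  have hzN : ((z : G) : GL (T2).D.Idx E) ∈ N := z.2
  rwa [show ((z : G) : GL (T2).D.Idx E) = _ from congrArg Subtype.val hz] at hzN

variable {P : Type*} [Group P] [Finite P] (f : P →* ↥((T2).D.monomialSubgroup E))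

omit [Fintype E] in
theorem index_le (hP : IsPGroup 3 P) :
    (∀ z, toPerm good2 (f z) ^ 3 = 1) ∧ ((toPerm good2).comp f).ker.index ∣ 3 := by
  haveI : Fact (Nat.Prime 3) := ⟨by norm_num⟩
  set ψ := (toPerm good2).comp f
  have hR : ψ.range ≤ wG good2 := by
    rw [← toPerm_range (F := E)]
    rintro _ ⟨z, rfl⟩
    exact ⟨f z, rfl⟩
  have hd : Nat.card ψ.range ∣ 3 := by
    obtain ⟨k, hk⟩ := IsPGroup.iff_card.1 (hP.of_surjective ψ.rangeRestrict ψ.rangeRestrict_surjective)
    have h := Subgroup.card_dvd_of_le hR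
    rw [hk, cardW] at h
    rw [hk]
    rcases le_or_gt k 1 with hk1 | hk1
    · exact (pow_dvd_pow 3 hk1).trans (by norm_num)
    · exact absurd ((pow_dvd_pow 3 hk1).trans h) (by norm_num)
  refine ⟨fun z => ?_, by rwa [Subgroup.index_ker]⟩
  obtain ⟨c, hc⟩ := hd
  have h : (⟨ψ z, z, rfl⟩ : ψ.range) ^ 3 = 1 := by
    rw [hc, pow_mul, pow_card_eq_one', one_pow]
  exact congrArg Subtype.val h

omit [Fintype E] [Finite P] in
theorem mem_ker_tor {z : P} (hz : z ∈ ((toPerm good2).comp f).ker) :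
    ∃ c, (f z : GL (T2).D.Idx E) = tor T2 E c := by
  rw [MonoidHom.mem_ker, MonoidHom.comp_apply, ← MonoidHom.mem_ker, toPerm_ker,
    Subgroup.mem_subgroupOf, diagonalSubgroup_eq good2] at hz
  obtain ⟨c, hc⟩ := hz
  exact ⟨c, hc.symm⟩

/-- Automorphism groups of three-subgroups have order prime to five. -/
theorem not_five (hf : Function.Injective f) (hP : IsPGroup 3 P) : ¬ 5 ∣ Nat.card (MulAut P) := by
  classical
  haveI : Fact (Nat.Prime 3) := ⟨by norm_num⟩
  obtain ⟨n, hn⟩ := IsPGroup.iff_card.1 hP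
  obtain ⟨r, hr⟩ := hP.index (frattini P)
  set B := ((toPerm good2).comp f).ker
  have hBc : ∀ a b : B, a * b = b * a := fun a b => by
    obtain ⟨c, hc⟩ := mem_ker_tor f a.2
    obtain ⟨d, hd⟩ := mem_ker_tor f b.2
    exact Subtype.ext (hf (Subtype.ext (by
      push_cast [map_mul]
      rw [hc, hd, ← map_mul, ← map_mul, mul_comm])))
  letI : CommGroup B := { (inferInstance : Group B) with mul_comm := hBc }
  let cube : B →* B := powMonoidHom 3
  have hker : Nat.card cube.ker ≤ 9 := by
    have hex : ∀ z : cube.ker, ∃ c, (f (z : B) : GL (T2).D.Idx E) = tor T2 E c ∧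
        ∀ j < (T2).l, c j ^ 3 = 1 := by
      intro z
      obtain ⟨c, hc⟩ := mem_ker_tor f (z : B).2
      refine ⟨c, hc, fun j hj => ?_⟩
      refine tor_inj good2 dualOK (c := c ^ 3) (d := 1) ?_ hj
      have hz : (z : B) ^ 3 = 1 := z.2
      rw [map_pow, ← hc, ← SubmonoidClass.coe_pow, ← map_pow, ← SubmonoidClass.coe_pow, hz,
        OneMemClass.coe_one, map_one, map_one, OneMemClass.coe_one]
    choose c hc hc3 using hex
    have hl := tab_facts.2.1
    let g : cube.ker → {x : Eˣ // x ^ 3 = 1} × {x : Eˣ // x ^ 3 = 1} := fun z =>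
      (⟨c z 0, hc3 z 0 (by omega)⟩, ⟨c z 1, hc3 z 1 (by omega)⟩)
    have hg : Function.Injective g := fun a b e => by
      have e0 : c a 0 = c b 0 := congrArg (fun p => (p.1 : Eˣ)) e
      have e1 : c a 1 = c b 1 := congrArg (fun p => (p.2 : Eˣ)) e
      refine Subtype.ext (Subtype.ext (hf (Subtype.ext ?_)))
      rw [hc, hc]
      refine tor_congr good2 fun j hj => ?_
      rw [hl] at hj
      interval_cases j
      · exact e0
      · exact e1
    refine (Nat.card_le_card_of_injective g hg).trans ?_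
    rw [Nat.card_prod]
    exact Nat.mul_le_mul card_cube_roots card_cube_roots
  have hrange : cube.range.map B.subtype ≤ frattini P := by
    rintro _ ⟨_, ⟨v, rfl⟩, rfl⟩
    exact Cfsg.Agent.PGroupBasics.pow_mem_frattini hP (v : P)
  have hBcard : Nat.card B ≤ 9 * Nat.card (frattini P) := by
    rw [← cube.ker.card_mul_index, Subgroup.index_ker]
    refine Nat.mul_le_mul hker ?_
    rw [Nat.card_congr (cube.range.equivMapOfInjective B.subtype B.subtype_injective).toEquiv]
    exact Subgroup.card_le_of_le hrange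
  have hle : 3 ^ r ≤ 3 ^ 3 := by
    have h1 := (frattini P).card_mul_index
    have h2 := B.card_mul_index
    have h3 : B.index ≤ 3 := Nat.le_of_dvd (by norm_num) (index_le f hP).2
    have h4 : Nat.card P ≤ 3 * (9 * Nat.card (frattini P)) := by
      rw [← h2, mul_comm]
      exact Nat.mul_le_mul h3 hBcard
    rw [← h1, hr, mul_comm] at h4
    refine Nat.le_of_mul_le_mul_right (c := Nat.card (frattini P)) ?_ Nat.card_pos
    linarith
  have hr3 : r ≤ 3 := (Nat.pow_le_pow_iff_right (by norm_num)).1 hle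
  intro h5
  have h := h5.trans (FrattiniAut.card_mulAut_dvd (p := 3) hn hr)
  rcases (Nat.Prime.dvd_mul (by norm_num)).1 h with h | h
  · have := (Nat.Prime.dvd_of_dvd_pow (by norm_num) h)
    norm_num at this
  · interval_cases r <;> norm_num [Finset.prod_range_succ] at h

omit [Fintype E] in
/-- Torus elements of a commutative group with a rotation. -/
theorem fixed_wt (hf : Function.Injective f) {z : P} {R : List ℕ} (hR : R ∈ rots)
    (hzR : toPerm good2 (f z) = pL good2 R) {b : P} {c : ℕ → Eˣ}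
    (hb : (f b : GL (T2).D.Idx E) = tor T2 E c) (hc : z * b = b * z) :
    ∀ s < 12, wt T2 E c ((T2).rw' R s) = wt T2 E c s := by
  obtain ⟨L, hL, d, hd⟩ := exists_mono_word good2 (f z)
  rw [toPerm_eq good2 hL hd, pL_eq_iff good2 hL (rots_wd hR)] at hzR
  have e : nWd good2 E L * tor T2 E c * (nWd good2 E L)⁻¹ = tor T2 E c := by
    have h := congrArg (fun v => (f v : GL (T2).D.Idx E)) hc
    simp only [map_mul, Subgroup.coe_mul] at h
    rw [hd, hb] at h
    rw [mul_inv_eq_iff_eq_mul]
    refine mul_left_cancel (a := tor T2 E d) ?_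
    rw [← mul_assoc, h, ← mul_assoc, ← map_mul, ← mul_assoc, ← map_mul, mul_comm]
  intro s hs
  rw [← hzR s (tab_facts.1.symm ▸ hs)]
  exact wt_of_conj good2 hL e (tab_facts.1.symm ▸ hs)

omit [Fintype E] [Finite P] in
theorem exists_rot (hP : IsPGroup 3 P) [Finite P] {z : P} (hz : z ∉ ((toPerm good2).comp f).ker) :
    ∃ R ∈ rots, toPerm good2 (f z) = pL good2 R := by
  obtain ⟨L, hL, d, hd⟩ := exists_mono_word good2 (f z)
  have h := (index_le f hP).1 z
  have hz' : toPerm good2 (f z) ≠ 1 := hz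
  rw [toPerm_eq good2 hL hd] at h hz' ⊢
  exact (of_cube hL h).resolve_left hz'

/-- The torus elements commuting with a rotation. -/
theorem card_fixed (hf : Function.Injective f) {z : P} {R : List ℕ} (hR : R ∈ rots)
    (hzR : toPerm good2 (f z) = pL good2 R) {C : Subgroup P}
    (hC : C ≤ ((toPerm good2).comp f).ker) (hcomm : ∀ b ∈ C, z * b = b * z) : Nat.card C ≤ 3 := by
  have hex : ∀ b : C, ∃ c, (f (b : P) : GL (T2).D.Idx E) = tor T2 E c ∧
      ∀ s < 12, wt T2 E c ((T2).rw' R s) = wt T2 E c s := fun b => by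
    obtain ⟨c, hc⟩ := mem_ker_tor f (hC b.2)
    exact ⟨c, hc, fixed_wt f hf hR hzR hc (hcomm b b.2)⟩
  choose c hc hfix using hex
  refine (Nat.card_le_card_of_injective
    (fun b => (⟨wt T2 E (c b) 7, wt_short hR (hfix b)⟩ : {x : Eˣ // x ^ 3 = 1})) fun a b e => ?_).trans
    card_cube_roots
  refine Subtype.ext (hf (Subtype.ext ?_))
  rw [hc, hc]
  exact tor_eq_of_fixed hR (hfix a) (hfix b) (congrArg Subtype.val e)

/-- A group with a centre of order above three is commutative. -/
theorem comm_of_center (hf : Function.Injective f) (hP : IsPGroup 3 P)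
    (hZ : 3 < Nat.card (Subgroup.center P)) : ∀ a b : P, a * b = b * a := by
  set B := ((toPerm good2).comp f).ker
  have hB : ∀ a ∈ B, ∀ b ∈ B, a * b = b * a := fun a ha b hb => by
    obtain ⟨c, hc⟩ := mem_ker_tor f ha
    obtain ⟨d, hd⟩ := mem_ker_tor f hb
    exact hf (Subtype.ext (by
      push_cast [map_mul]
      rw [hc, hd, ← map_mul, ← map_mul, mul_comm]))
  by_cases hzB : Subgroup.center P ≤ B
  · by_cases htop : B = ⊤
    · exact fun a b => hB a (htop ▸ Subgroup.mem_top a) b (htop ▸ Subgroup.mem_top b)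
    · obtain ⟨z, hz⟩ : ∃ z, z ∉ B := by
        by_contra hcon
        push_neg at hcon
        exact htop (eq_top_iff.2 fun z _ => hcon z)
      obtain ⟨R, hR, hzR⟩ := exists_rot f hP hz
      have := card_fixed f hf hR hzR hzB fun b hb => Subgroup.mem_center_iff.1 hb z
      omega
  · obtain ⟨c, hcZ, hcB⟩ := SetLike.not_le_iff_exists.1 hzB
    set S := B ⊔ Subgroup.zpowers c
    have hS : S = ⊤ := by
      have h3 : B.index = 3 := ((Nat.dvd_prime Nat.prime_three).1 (index_le f hP).2).resolve_left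
        fun h1 => hcB (by rw [show B = ⊤ from Subgroup.index_eq_one.1 h1]; exact Subgroup.mem_top c)
      have hlt : B.index ≠ S.index := fun e => hcB (by
        have : B = S := by
          refine Subgroup.eq_of_le_of_card_ge le_sup_left (le_of_eq ?_)
          have h1 := B.card_mul_index
          rw [← S.card_mul_index, e] at h1
          exact (Nat.eq_of_mul_eq_mul_right (Nat.pos_of_ne_zero Subgroup.index_ne_zero_of_finite) h1).symm
        rw [this]
        exact Subgroup.mem_sup_right (Subgroup.mem_zpowers c))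
      have hd : S.index ∣ 3 := h3 ▸ Subgroup.index_dvd_of_le le_sup_left
      rw [← Subgroup.index_eq_one]
      exact ((Nat.dvd_prime Nat.prime_three).1 hd).resolve_right fun e => hlt (h3.trans e.symm)
    have hcomm : S ≤ Subgroup.centralizer (S : Set P) := by
      have key : ∀ a ∈ B, S ≤ Subgroup.centralizer {a} := fun a ha =>
        sup_le (fun b hb => Subgroup.mem_centralizer_iff.2 (fun x hx => by
            rw [Set.mem_singleton_iff] at hx; subst hx; exact hB x ha b hb))
          (Subgroup.zpowers_le.2 (Subgroup.mem_centralizer_iff.2 (fun x hx => by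
            rw [Set.mem_singleton_iff] at hx; subst hx; exact Subgroup.mem_center_iff.1 hcZ x)))
      refine sup_le (fun a ha => Subgroup.mem_centralizer_iff.2 fun b hb => ?_)
        (Subgroup.zpowers_le.2 (Subgroup.mem_centralizer_iff.2 fun b _ => Subgroup.mem_center_iff.1 hcZ b))
      exact (Subgroup.mem_centralizer_iff.1 (key a ha hb) a rfl).symm
    intro a b
    exact (Subgroup.mem_centralizer_iff.1 (hcomm (hS ▸ Subgroup.mem_top a)) b (hS ▸ Subgroup.mem_top b)).symm

end mono

section fix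

/-- The vectors fixed by a matrix. -/
abbrev Fix (M : Matrix (T2).D.Idx (T2).D.Idx E) : Type _ := {v : (T2).D.Idx → E // M *ᵥ v = v}

omit [Fintype E] in
theorem exists_idx {j : ℕ} (hj : j < 14) : ∃ a : (T2).D.Idx, (T2).code a = j :=
  exists_code good2 (by rw [tab_facts.1, tab_facts.2.1]; omega)

/-- A rotation fixes at most a six-dimensional space. -/
theorem card_fix_rot {L R : List ℕ} (hL : (T2).Wd L) (hR : R ∈ rots)
    (hLR : ∀ s < 12, (T2).rw' L s = (T2).rw' R s) (d : ℕ → Eˣ) :
    Nat.card (Fix ((tor T2 E d * nWd good2 E L : GL (T2).D.Idx E) : Matrix _ _ E)) ≤ Fintype.card E ^ 6 := by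
  classical
  set M := ((tor T2 E d * nWd good2 E L : GL (T2).D.Idx E) : Matrix (T2).D.Idx (T2).D.Idx E)
  obtain ⟨hn, hl, -, -⟩ := tab_facts
  have hroot : ∀ a, 2 ≤ (T2).code a → ∀ a', (T2).code a' = 2 + (T2).rw' R ((T2).code a - 2) →
      ∃ u : E, ∀ v : (T2).D.Idx → E, (∀ k, (T2).code k < 2 → v k = 0) → (M *ᵥ v) a' = u * v a := by
    intro a ha a' ha'
    refine ⟨M a' a, fun v hv => ?_⟩
    show (∑ k, M a' k * v k) = _
    refine Finset.sum_eq_single a (fun k _ hk => ?_) (fun h => absurd (Finset.mem_univ a) h)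
    by_cases hk2 : (T2).code k < 2
    · rw [hv k hk2, mul_zero]
    have hcol : ∀ k', M k' k = (M *ᵥ bas T2 E ((T2).code k)) k' := fun k' => by
      rw [show (bas T2 E ((T2).code k) : (T2).D.Idx → E) = Pi.single k 1 from by
        funext i
        simp [bas, Pi.single_apply, (code_injective good2).eq_iff], mulVec_single_one]
      rfl
    set s := (T2).code k - 2 with hs
    have hslt : s < (T2).n := by
      have := code_lt good2 k
      omega
    have hcs : (T2).code k = (T2).l + s := by omega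
    obtain ⟨u, hu⟩ := nWd_col (F := E) good2 hL hslt
    rw [hcol, hcs, show M = ((tor T2 E d : GL (T2).D.Idx E) : Matrix _ _ E) * ((nWd good2 E L : GL (T2).D.Idx E) : Matrix _ _ E) from Units.val_mul _ _, ← mulVec_mulVec, hu, mulVec_smul, tor_apply,
      dg_col_root good2]
    simp only [Pi.smul_apply, bas, smul_eq_mul]
    rw [if_neg, mul_zero, mul_zero, zero_mul]
    rw [ha', hLR s (hn ▸ hslt), hl]
    intro e
    have e' : (T2).rw' R ((T2).code a - 2) = (T2).rw' R s := by omega
    have h1 : (T2).code a - 2 = s := by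
      have h := congrArg ((T2).rw' R.reverse) e'
      have := code_lt good2 a
      rwa [rw'_rev good2 (rots_wd hR) (by omega), rw'_rev good2 (rots_wd hR) hslt] at h
    exact hk ((code_injective good2 (by omega)).symm)
  have hex : ∀ k : Fin 6, ∃ a : (T2).D.Idx, (T2).code a = k := fun k => exists_idx (by omega)
  choose idx hidx using hex
  let g : Fix M → (Fin 6 → E) := fun v k => v.1 (idx k)
  have hg : Function.Injective g := by
    intro v w e
    apply Subtype.ext
    set x := v.1 - w.1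
    have hx : M *ᵥ x = x := by rw [mulVec_sub, v.2, w.2]
    have h6 : ∀ a, (T2).code a < 6 → x a = 0 := fun a ha => by
      have : a = idx ⟨_, ha⟩ := code_injective good2 (hidx ⟨_, ha⟩).symm
      rw [this]
      exact sub_eq_zero.2 (congrFun e ⟨_, ha⟩)
    have hstep : ∀ a, 2 ≤ (T2).code a → x a = 0 → ∀ a', (T2).code a' = 2 + (T2).rw' R ((T2).code a - 2) →
        x a' = 0 := fun a ha h0 a' ha' => by
      obtain ⟨u, hu⟩ := hroot a ha a' ha'
      rw [← hx, hu x (fun k hk => h6 k (by omega)), h0, mul_zero]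
    refine sub_eq_zero.1 (funext fun a => ?_)
    show x a = 0
    by_cases ha : (T2).code a < 6
    · exact h6 a ha
    have hlt := code_lt good2 a
    obtain ⟨r, hr, h⟩ := orbit_reps R hR ((T2).code a - 2) (List.mem_range.2 (by omega))
    rw [List.mem_range] at hr
    have hW := rots_wd hR
    have hr1 := rw'_lt good2 hW (show r < (T2).n by omega)
    obtain ⟨a0, ha0⟩ := exists_idx (show r + 2 < 14 by omega)
    obtain ⟨a1, ha1⟩ := exists_idx (show 2 + (T2).rw' R r < 14 by omega)
    have x1 : x a1 = 0 := hstep a0 (by omega) (h6 a0 (by omega)) a1 (by rw [ha1, ha0, Nat.add_sub_cancel])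
    rcases h with h | h | h
    · rw [code_injective good2 (show (T2).code a = (T2).code a0 by omega)]
      exact h6 a0 (by omega)
    · rw [code_injective good2 (show (T2).code a = (T2).code a1 by omega)]
      exact x1
    · refine hstep a1 (by omega) x1 a ?_
      rw [ha1, Nat.add_sub_cancel_left]
      omega
  refine (Nat.card_le_card_of_injective g hg).trans_eq ?_
  rw [Nat.card_eq_fintype_card, Fintype.card_fun, Fintype.card_fin]

/-- A torus element killing the long roots fixes an eight-dimensional space. -/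
theorem card_fix_tor {R : List ℕ} (hR : R ∈ rots) {c : ℕ → Eˣ}
    (hc : ∀ s < 12, wt T2 E c ((T2).rw' R s) = wt T2 E c s) :
    Fintype.card E ^ 8 ≤ Nat.card (Fix ((tor T2 E c : GL (T2).D.Idx E) : Matrix _ _ E)) := by
  classical
  obtain ⟨hn, hl, -, -⟩ := tab_facts
  let C : Fin 8 → ℕ := ![0, 1, 2, 3, 7, 8, 12, 13]
  have hC : Function.Injective C := by decide
  have hex : ∀ k : Fin 8, ∃ a : (T2).D.Idx, (T2).code a = C k := fun k =>
    exists_idx (by revert k; decide)
  choose idx hidx using hex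
  have hi : Function.Injective idx := fun a b e => hC (by rw [← hidx, ← hidx, e])
  let g : (Fin 8 → E) → Fix ((tor T2 E c : GL (T2).D.Idx E) : Matrix _ _ E) := fun w =>
    ⟨Function.extend idx w 0, by
      funext a
      rw [tor_apply, dg_val, mulVec_diagonal]
      by_cases h : ∃ k, idx k = a
      · obtain ⟨k, rfl⟩ := h
        rw [hi.extend_apply]
        suffices dgv T2 (wt T2 E c) (idx k) = 1 by rw [this, one_mul]
        have hk := hidx k
        generalize idx k = a at hk ⊢
        rcases a with ⟨a, ha⟩ | ⟨a, ha⟩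
        · rfl
        · simp only [dgv, Sum.elim_inr]
          have hcode : (T2).l + a = C k := hk
          rw [wt_long hR hc, Units.val_one]
          rw [hl] at hcode
          fin_cases k <;> simp [C] at hcode <;> simp [longs] <;> omega
      · rw [Function.extend_apply' _ _ _ h, Pi.zero_apply, mul_zero]⟩
  have hg : Function.Injective g := fun u v e => funext fun k => by
    have := congrFun (congrArg Subtype.val e) (idx k)
    simp only [g, hi.extend_apply] at this
    exact this
  refine le_of_eq_of_le ?_ (Nat.card_le_card_of_injective g hg)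
  rw [Nat.card_eq_fintype_card, Fintype.card_fun, Fintype.card_fin]

omit [Fintype E] in
theorem card_fix_conj (m y : GL (T2).D.Idx E) :
    Nat.card (Fix (y : Matrix (T2).D.Idx (T2).D.Idx E)) =
      Nat.card (Fix ((m * y * m⁻¹ : GL (T2).D.Idx E) : Matrix _ _ E)) := by
  refine Nat.card_congr
    { toFun := fun v => ⟨(m : Matrix _ _ E) *ᵥ v.1, ?_⟩
      invFun := fun v => ⟨((m⁻¹ : GL (T2).D.Idx E) : Matrix _ _ E) *ᵥ v.1, ?_⟩
      left_inv := fun v => Subtype.ext ?_
      right_inv := fun v => Subtype.ext ?_ }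
  · rw [mulVec_mulVec, ← Units.val_mul, inv_mul_cancel_right, Units.val_mul, ← mulVec_mulVec, v.2]
  · have h : (y : GL (T2).D.Idx E) * m⁻¹ = m⁻¹ * (m * y * m⁻¹) := by group
    rw [mulVec_mulVec, ← Units.val_mul, h, Units.val_mul, ← mulVec_mulVec, v.2]
  · dsimp only
    rw [mulVec_mulVec, ← Units.val_mul, inv_mul_cancel, Units.val_one, one_mulVec]
  · dsimp only
    rw [mulVec_mulVec, ← Units.val_mul, mul_inv_cancel, Units.val_one, one_mulVec]

end fix

end Cfsg.Agent.AltAuto.G2
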