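import Cfsg.Agent.Lib.AltAuto.Pair3
import Cfsg.Agent.Lib.AltAuto.G2Mono
import Mathlib.FieldTheory.Finite.Basic

/-! Alternating sections of G2. -/

set_option autoImplicit false
set_option maxRecDepth 20000

namespace Cfsg.Agent.AltAuto.G2

open Cfsg.Lie Cfsg.Agent.Chev Cfsg.Agent.Chev.Tab Cfsg.Agent.ChevAut Cfsg.Agent.CoxTorus Matrix

universe u

local notation "T2" => G2Data.tab

/-- A five-cycle in degree seven. -/
def s5 : ↥(alternatingGroup (Fin 7)) :=
  ⟨⟨![1, 2, 3, 4, 0, 5, 6], ![4, 0, 1, 2, 3, 5, 6], by decide, by decide⟩,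
    Equiv.Perm.mem_alternatingGroup.2 (by decide +kernel)⟩

/-- Doubling on the five-cycle. -/
def m5 : ↥(alternatingGroup (Fin 7)) :=
  ⟨⟨![0, 2, 4, 1, 3, 6, 5], ![0, 3, 1, 4, 2, 6, 5], by decide, by decide⟩,
    Equiv.Perm.mem_alternatingGroup.2 (by decide +kernel)⟩

theorem m5_conj : m5 * s5 * m5⁻¹ = s5 ^ 2 := by decide +kernel

theorem s5_moved : s5 ^ (2 ^ 6) ≠ s5 := by decide +kernel

theorem s5_order : orderOf s5 = 5 := by
  haveI : Fact (Nat.Prime 5) := ⟨by norm_num⟩
  exact orderOf_eq_prime (by decide +kernel) (by decide +kernel)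

theorem six_conj {Q : Type*} [Group Q] {x y v : Q} (h1 : v * x * v⁻¹ = y) (h2 : v * y * v⁻¹ = x⁻¹) :
    v ^ 6 * x * (v ^ 6)⁻¹ = x⁻¹ := by
  have h3 : v * x⁻¹ * v⁻¹ = y⁻¹ := by rw [← h1]; group
  have h4 : v * y⁻¹ * v⁻¹ = x := by rw [← inv_inv x, ← h2]; group
  calc v ^ 6 * x * (v ^ 6)⁻¹
      = v * (v * (v * (v * (v * (v * x * v⁻¹) * v⁻¹) * v⁻¹) * v⁻¹) * v⁻¹) * v⁻¹ := by
        simp only [pow_succ', pow_zero, mul_one, _root_.mul_inv_rev, mul_assoc]
    _ = x⁻¹ := by rw [h1, h2, h3, h4, h1, h2]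

theorem pow_conj {Q : Type*} [Group Q] {x v : Q} {n : ℕ} (h : v * x * v⁻¹ = x ^ n) :
    ∀ k : ℕ, v ^ k * x * (v ^ k)⁻¹ = x ^ (n ^ k)
  | 0 => by simp
  | k + 1 => by
    rw [pow_succ' v, show v * v ^ k * x * (v * v ^ k)⁻¹ = v * (v ^ k * x * (v ^ k)⁻¹) * v⁻¹ by group,
      pow_conj h k, ← conj_pow, h, ← pow_mul, pow_succ']

/-- The bound. -/
theorem g2_bound {F : Type u} [Field F] [Fintype F] (p : ℕ) [Fact p.Prime] [CharP F p]
    (r : ℕ) (H : Subgroup ↥((T2).D.group F)) (K : Subgroup ↥H) [K.Normal]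
    (h : Nonempty (↥H ⧸ K ≃* ↥(alternatingGroup (Fin r)))) :
    r ≤ 6 + (if p = 5 then 1 else 0) := by
  classical
  haveI : Finite F := Finite.of_fintype F
  obtain ⟨n, hp, hn⟩ := FiniteField.card F p
  have hndvd : ∀ l : ℕ, l.Prime → l ≠ p → ¬ l ∣ Fintype.card F := fun l hl hne hd =>
    hne ((Nat.prime_dvd_prime_iff_eq hl hp).1 (hl.dvd_of_dvd_pow (hn ▸ hd)))
  by_contra hr
  by_cases h5 : p = 5
  · -- an elementary group of order nine
    rw [if_pos h5] at hr
    obtain ⟨Γ, π, hπ⟩ := exists_restrict h (m := 8) (by omega)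
    haveI : Fact (Nat.Prime 3) := ⟨Nat.prime_three⟩
    obtain ⟨E, _, _, hE, ⟨φ⟩⟩ := exists_field (F := F) (d := 6) (by norm_num)
    have hQ : 9 ∣ Fintype.card E - 1 := by
      rw [hE]
      have hc : Nat.Coprime (Fintype.card F) 9 := by
        rw [show (9 : ℕ) = 3 ^ 2 by norm_num]
        exact Nat.Coprime.pow_right 2
          (Nat.Coprime.symm ((Nat.prime_three.coprime_iff_not_dvd).2 (hndvd 3 Nat.prime_three (by omega))))
      have := Nat.ModEq.pow_totient hc
      rw [show Nat.totient 9 = 6 by decide] at this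
      exact (Nat.modEq_iff_dvd' (Nat.one_le_pow _ _ Fintype.card_pos)).1 this.symm
    haveI : Finite E := Finite.of_fintype E
    let ι := emb φ Γ
    have hι := emb_group good2 φ Γ
    have hinj := emb_inj (T := T2) φ Γ
    -- monomial models
    have hmono : ∀ X : Subgroup Γ, IsPGroup 3 X → ∃ (hh : GL (T2).D.Idx E)
        (f : X →* ↥((T2).D.monomialSubgroup E)), Function.Injective f ∧ hh ∈ (T2).D.group E ∧
          ∀ a : X, (f a : GL (T2).D.Idx E) = hh * ι a * hh⁻¹ := by
      intro X hX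
      obtain ⟨hh, hhG, hmem⟩ := exists_mono hQ ι hι hX
      let f₀ : X →* GL (T2).D.Idx E := (((MulAut.conj hh).toMonoidHom).comp ι).comp X.subtype
      refine ⟨hh, f₀.codRestrict _ fun a => hmem a a.2, ?_, hhG, fun a => rfl⟩
      intro a b e
      have e' : (MulAut.conj hh) (ι a) = (MulAut.conj hh) (ι b) := congrArg Subtype.val e
      exact Subtype.ext (hinj ((MulAut.conj hh).injective e'))
    obtain ⟨P, g, hP, hcomm, hgP, hPE, hsurj, e, he, hπg⟩ := Pair3.exists_abelian hπ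
      (fun X hX => by
        obtain ⟨-, f, hf, -, -⟩ := hmono X hX
        exact not_five f hf hX)
      (fun X hX hZ a ha b hb => by
        obtain ⟨-, f, hf, -, -⟩ := hmono X hX
        exact congrArg Subtype.val (comm_of_center f hf hX hZ ⟨a, ha⟩ ⟨b, hb⟩))
    obtain ⟨hcx, hcy⟩ := Pair3.conj_coset he
    rw [← hπg] at hcx hcy
    obtain ⟨hh, f, hf, hhG, hfval⟩ := hmono P hP
    set B := ((toPerm good2).comp f).ker
    by_cases htop : ∀ a : P, a ∈ B
    · -- inside the torus
      obtain ⟨L, hL, hcen, -⟩ := exists_word_poly gA2 dualOK hinj hι (A := P) hhG (fun a ha => by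
        obtain ⟨c, hc⟩ := mem_ker_tor f (htop ⟨a, ha⟩)
        exact ⟨c, by rw [← hc, hfval]⟩) hgP
      obtain ⟨a, ha, hax⟩ := hsurj _ Pair3.x3_mem
      have h6 := congrArg π (hcen 6 (wmat_six hL) a ha)
      rw [map_mul, map_mul, map_pow, hax] at h6
      have h' := six_conj hcx hcy
      rw [h6, mul_inv_cancel_right] at h'
      exact absurd h' (by decide +kernel)
    · obtain ⟨z, hz⟩ := not_forall.1 htop
      obtain ⟨R, hR, hzR⟩ := exists_rot f hP hz
      have hcb : ∀ b ∈ B, z * b = b * z := fun b _ => Subtype.ext (hcomm z z.2 b b.2)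
      have hB3 : Nat.card B ≤ 3 := card_fixed f hf hR hzR le_rfl hcb
      let πP : P →* Pair3.E9 := (π.comp P.subtype).codRestrict _ fun a => hPE a a.2
      have hπP : Function.Surjective πP := fun w => by
        obtain ⟨a, ha, hw⟩ := hsurj w w.2
        exact ⟨⟨a, ha⟩, Subtype.ext hw⟩
      have hE9 : 9 ≤ Nat.card Pair3.E9 := by
        let j : Fin 3 × Fin 3 → Pair3.E9 := fun q =>
          ⟨Pair3.x3 ^ (q.1 : ℕ) * Pair3.y3 ^ (q.2 : ℕ),
            mul_mem (pow_mem Pair3.x3_mem _) (pow_mem Pair3.y3_mem _)⟩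
        refine le_trans (le_of_eq (by simp)) (Nat.card_le_card_of_injective j fun u v e => ?_)
        obtain ⟨h1, h2⟩ := Pair3.nine_inj _ _ _ _ (congrArg Subtype.val e)
        exact Prod.ext h1 h2
      have hidx : B.index ≤ 3 := Nat.le_of_dvd (by norm_num) (index_le f hP).2
      have hcP := B.card_mul_index
      have hge := Nat.card_le_card_of_surjective πP hπP
      have hP9 : Nat.card P ≤ Nat.card B * 3 := hcP ▸ Nat.mul_le_mul_left _ hidx
      have hBc : Nat.card B = 3 := by omega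
      have hinjπ : Function.Injective πP := by
        rcases (Nat.bijective_iff_surjective_and_card πP).2 ⟨hπP, by omega⟩ with ⟨h1, -⟩
        exact h1
      haveI : Nontrivial B := Finite.one_lt_card_iff_nontrivial.1 (by omega)
      obtain ⟨b, hb1⟩ := exists_ne (1 : B)
      obtain ⟨c, hc⟩ := mem_ker_tor f b.2
      have hfix := fixed_wt f hf hR hzR hc (hcb b b.2)
      set b' : P := ⟨g * (b : P) * g⁻¹, hgP _ (b : P).2⟩
      have hb' : b' ∈ B := by
        by_contra hb'
        obtain ⟨R', hR', hxR⟩ := exists_rot f hP hb'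
        obtain ⟨L, hL, d, hd⟩ := exists_mono_word good2 (f b')
        rw [toPerm_eq good2 hL hd, pL_eq_iff good2 hL (rots_wd hR')] at hxR
        have h1 := card_fix_rot hL hR' (fun s hs => hxR s (tab_facts.1.symm ▸ hs)) d
        have hval : (f b' : GL (T2).D.Idx E) =
            (hh * ι g * hh⁻¹) * tor T2 E c * (hh * ι g * hh⁻¹)⁻¹ := by
          rw [← hc, hfval, hfval, show ((b' : P) : Γ) = g * (b : P) * g⁻¹ from rfl, map_mul, map_mul,
            map_inv]
          group
        rw [← hd, hval, ← card_fix_conj] at h1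
        have h2 := (card_fix_tor hR hfix).trans h1
        exact absurd ((Nat.pow_le_pow_iff_right Fintype.one_lt_card).1 h2) (by norm_num)
      have hord : orderOf b = 3 := by
        have h := orderOf_dvd_natCard b
        rw [hBc] at h
        exact ((Nat.dvd_prime Nat.prime_three).1 h).resolve_left fun h1 => hb1 (orderOf_eq_one_iff.1 h1)
      obtain ⟨k, hk⟩ : ∃ k : Fin 3, (⟨b', hb'⟩ : B) = b ^ (k : ℕ) := by
        have hz : (⟨b', hb'⟩ : B) ∈ Subgroup.zpowers b := by
          rw [Subgroup.eq_top_of_card_eq (Subgroup.zpowers b) (by rw [Nat.card_zpowers, hord, hBc])]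
          exact Subgroup.mem_top _
        obtain ⟨l, hl⟩ := Subgroup.mem_zpowers_iff.1 hz
        refine ⟨⟨(l % 3).toNat, by omega⟩, hl.symm.trans ?_⟩
        show b ^ l = b ^ (l % 3).toNat
        rw [← zpow_natCast, Int.toNat_of_nonneg (Int.emod_nonneg _ (by norm_num))]
        exact zpow_eq_zpow_emod' l (by have := pow_orderOf_eq_one b; rwa [hord] at this)
      have hk' : g * (b : P) * g⁻¹ = ((b : P) : Γ) ^ (k : ℕ) := by
        have := congrArg (fun v : B => ((v : P) : Γ)) hk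
        simpa [b'] using this
      obtain ⟨i, j, hij⟩ := Pair3.mem_E9 (hPE _ (b : P).2)
      have hne : i ≠ 0 ∨ j ≠ 0 := by
        by_contra hcon
        push_neg at hcon
        obtain ⟨rfl, rfl⟩ := hcon
        refine hb1 (Subtype.ext (hinjπ (Subtype.ext ?_)))
        rw [OneMemClass.coe_one, map_one, OneMemClass.coe_one]
        show π ((b : P) : Γ) = 1
        simpa using hij
      refine Pair3.moved i j hne k ?_
      have := congrArg π hk'
      rw [map_mul, map_mul, map_inv, map_pow, hij, ← conj_mul, ← conj_pow, ← conj_pow, hcx, hcy] at this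
      rw [← conj_mul, ← conj_pow, ← conj_pow, Pair3.conj_x, Pair3.conj_y, this]
  · -- order five
    rw [if_neg h5] at hr
    obtain ⟨Γ, π, hπ⟩ := exists_restrict h (m := 7) (by omega)
    haveI : Fact (Nat.Prime 5) := ⟨by norm_num⟩
    obtain ⟨E, _, _, hE, ⟨φ⟩⟩ := exists_field (F := F) (d := 4) (by norm_num)
    have hQ : 5 ∣ Fintype.card E - 1 :=
      hE ▸ dvd_pow_sub_one (by norm_num) (hndvd 5 (by norm_num) (Ne.symm h5)) (by norm_num)
    have hW : ¬ 5 ∣ Nat.card ↥(wG gA2.toGood) := by rw [cardW]; norm_num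
    obtain ⟨P, x, hP, hx, ⟨y, hy, hy5⟩, hk⟩ := exists_single hπ s5_order m5_conj
    obtain ⟨hh, hhG, hd⟩ := exists_diag gA2 (emb φ Γ) (emb_group good2 φ Γ) hQ hW hP
    obtain ⟨L, hL, hcen, -⟩ := exists_word_poly gA2 dualOK (emb_inj φ Γ) (emb_group good2 φ Γ) hhG hd hx
    have h6 := congrArg π (hcen 6 (wmat_six hL) y hy)
    rw [map_mul, map_mul, map_pow, hy5] at h6
    have h' := pow_conj hk 6
    rw [h6, mul_inv_cancel_right] at h'
    exact s5_moved h'.symm

end Cfsg.Agent.AltAuto.G2
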