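import Mathlib.GroupTheory.Sylow
import Mathlib.GroupTheory.SpecificGroups.Alternating
import Mathlib.GroupTheory.Perm.Option
import Mathlib.GroupTheory.QuotientGroup.Basic

/-! Lifting normalised cyclic subgroups through a surjection by Frattini arguments. -/

set_option autoImplicit false

namespace Cfsg.Agent.AltAuto

variable {Γ Q : Type*} [Group Γ] [Group Q]

/-- A translate of a normalising element normalises a given Sylow subgroup. -/
theorem exists_adjust [Finite Γ] {a : ℕ} [Fact a.Prime] {U : Subgroup Γ} {x : Γ}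
    (hx : ∀ u ∈ U, x * u * x⁻¹ ∈ U) (P : Sylow a U) :
    ∃ u ∈ U, ∀ y ∈ (P : Subgroup U).map U.subtype,
      u * x * y * (u * x)⁻¹ ∈ (P : Subgroup U).map U.subtype := by
  let c : U →* U := ((MulAut.conj x).toMonoidHom.comp U.subtype).codRestrict U fun u => hx u u.2
  have hinj : Function.Injective c := fun v w e => by
    have := congrArg Subtype.val e
    exact Subtype.ext (by simpa [c] using this)
  obtain ⟨Q', hQ'⟩ := (P.isPGroup'.map c).exists_le_sylow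
  obtain ⟨u, hu⟩ := MulAction.exists_smul_eq U Q' P
  refine ⟨u, u.2, ?_⟩
  rintro _ ⟨w, hw, rfl⟩
  refine ⟨u * c w * u⁻¹, ?_, ?_⟩
  · show u * c w * u⁻¹ ∈ (P : Subgroup U)
    rw [← hu, Sylow.smul_def, Sylow.pointwise_smul_def]
    exact ⟨_, hQ' ⟨w, hw, rfl⟩, rfl⟩
  · simp [c]; group

/-- A Sylow subgroup of the preimage of a cyclic group of prime order maps onto it. -/
theorem exists_lift [Finite Γ] {a : ℕ} [Fact a.Prime] (π : Γ →* Q) {U : Subgroup Γ} {σ : Q}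
    (hσ : orderOf σ = a) (hU : ∀ u ∈ U, π u ∈ Subgroup.zpowers σ) {y : Γ} (hy : y ∈ U) (hy1 : π y ≠ 1)
    (P : Sylow a U) : ∃ z ∈ (P : Subgroup U).map U.subtype, π z = σ := by
  have ha : a.Prime := Fact.out
  obtain ⟨i, hi⟩ := Subgroup.mem_zpowers_iff.1 (hU y hy)
  set y' : U := ⟨y, hy⟩
  obtain ⟨k, m, hm, hkm⟩ := Nat.exists_eq_pow_mul_and_not_dvd (orderOf_pos y').ne' a ha.ne_one
  have hp : IsPGroup a (Subgroup.zpowers (y' ^ m)) := by
    intro z
    refine ⟨k, Subtype.ext ?_⟩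
    obtain ⟨j, hj⟩ := Subgroup.mem_zpowers_iff.1 z.2
    rw [SubmonoidClass.coe_pow, OneMemClass.coe_one, ← hj, ← zpow_natCast, ← zpow_mul, mul_comm, zpow_mul,
      zpow_natCast, ← pow_mul, mul_comm, ← hkm, pow_orderOf_eq_one, one_zpow]
  obtain ⟨Q', hQ'⟩ := hp.exists_le_sylow
  obtain ⟨u, hu⟩ := MulAction.exists_smul_eq U Q' P
  have hmem : u * y' ^ m * u⁻¹ ∈ (P : Subgroup U) := by
    rw [← hu, Sylow.smul_def, Sylow.pointwise_smul_def]
    exact ⟨_, hQ' (Subgroup.mem_zpowers _), rfl⟩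
  have hz : π ((u * y' ^ m * u⁻¹ : U) : Γ) = π y ^ m := by
    obtain ⟨j, hj⟩ := Subgroup.mem_zpowers_iff.1 (hU u u.2)
    simp only [Subgroup.coe_mul, SubmonoidClass.coe_pow, InvMemClass.coe_inv, map_mul, map_pow, map_inv]
    rw [← hj, ← hi, ← zpow_natCast, ← zpow_mul, ← zpow_add, ← zpow_neg, ← zpow_add]
    congr 1; ring
  -- a generator
  have hya : orderOf (π y) = a := by
    refine ((Nat.dvd_prime ha).1 ?_).resolve_left fun h => hy1 (orderOf_eq_one_iff.1 h)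
    rw [← hi, ← hσ]
    exact orderOf_dvd_of_mem_zpowers (zpow_mem (Subgroup.mem_zpowers σ) i)
  have hgen : σ ∈ Subgroup.zpowers (π y ^ m) := by
    haveI : Finite (Subgroup.zpowers σ) :=
      (isOfFinOrder_iff_pow_eq_one.2 ⟨a, ha.pos, by rw [← hσ, pow_orderOf_eq_one]⟩).finite_zpowers.to_subtype
    have hle : Subgroup.zpowers (π y ^ m) ≤ Subgroup.zpowers σ :=
      Subgroup.zpowers_le.2 (pow_mem (hU y hy) m)
    have hcard : Nat.card (Subgroup.zpowers σ) ≤ Nat.card (Subgroup.zpowers (π y ^ m)) := by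
      rw [Nat.card_zpowers, Nat.card_zpowers, hσ, Nat.Coprime.orderOf_pow (by
        rw [hya]; exact (ha.coprime_iff_not_dvd).2 hm), hya]
    rw [Subgroup.eq_of_le_of_card_ge hle hcard]
    exact Subgroup.mem_zpowers σ
  obtain ⟨j, hj⟩ := Subgroup.mem_zpowers_iff.1 hgen
  refine ⟨((u * y' ^ m * u⁻¹ : U) : Γ) ^ j, zpow_mem (show ((u * y' ^ m * u⁻¹ : U) : Γ) ∈ (P : Subgroup U).map U.subtype from ⟨_, hmem, rfl⟩) j, ?_⟩
  rw [map_zpow, hz, hj]

theorem conj_zpowers {σ x : Q} {n : ℤ} (h : x * σ * x⁻¹ = σ ^ n) :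
    ∀ w ∈ Subgroup.zpowers σ, x * w * x⁻¹ ∈ Subgroup.zpowers σ := by
  rintro _ ⟨i, rfl⟩
  show x * σ ^ i * x⁻¹ ∈ _
  rw [← conj_zpow, h]
  exact zpow_mem (zpow_mem (Subgroup.mem_zpowers σ) n) i

/-- One normalised cyclic subgroup. -/
theorem exists_single [Finite Γ] {a : ℕ} [Fact a.Prime] {π : Γ →* Q} (hπ : Function.Surjective π)
    {σ t : Q} (hσ : orderOf σ = a) {n : ℕ} (ht : t * σ * t⁻¹ = σ ^ n) :
    ∃ (P : Subgroup Γ) (g : Γ), IsPGroup a P ∧ (∀ y ∈ P, g * y * g⁻¹ ∈ P) ∧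
      (∃ y ∈ P, π y = σ) ∧ π g * σ * (π g)⁻¹ = σ ^ n := by
  set U := (Subgroup.zpowers σ).comap π with hU
  obtain ⟨x, hx⟩ := hπ t
  have hxU : ∀ u ∈ U, x * u * x⁻¹ ∈ U := fun u hu => by
    rw [hU, Subgroup.mem_comap, map_mul, map_mul, map_inv, hx]
    exact conj_zpowers (n := n) (by rw [ht, zpow_natCast]) _ hu
  let P : Sylow a U := default
  obtain ⟨u, hu, hnorm⟩ := exists_adjust hxU P
  obtain ⟨y, hy⟩ := hπ σ
  refine ⟨(P : Subgroup U).map U.subtype, u * x, P.isPGroup'.map _, hnorm,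
    exists_lift π hσ (fun w hw => hw) (show y ∈ U by rw [hU, Subgroup.mem_comap, hy]; exact Subgroup.mem_zpowers σ)
      (by rw [hy]; intro h; rw [h, orderOf_one] at hσ; exact (Fact.out : a.Prime).ne_one hσ.symm) P, ?_⟩
  obtain ⟨i, hi⟩ := Subgroup.mem_zpowers_iff.1 (show π u ∈ Subgroup.zpowers σ from hu)
  rw [map_mul, hx, ← hi, show σ ^ i * t * σ * (σ ^ i * t)⁻¹ = σ ^ i * (t * σ * t⁻¹) * σ ^ (-i) by group,
    ht]
  group

/-- Two commuting normalised cyclic subgroups of different prime orders. -/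
theorem exists_pair [Finite Γ] {a b N : ℕ} [Fact a.Prime] [Fact b.Prime] (hab : a ≠ b) (hN : ¬ b ∣ N)
    {π : Γ →* Q} (hπ : Function.Surjective π)
    (hcen : ∀ (P : Subgroup Γ) (x : Γ), IsPGroup a P → (∀ y ∈ P, x * y * x⁻¹ ∈ P) →
      ∀ y ∈ P, x ^ N * y = y * x ^ N)
    {σ ρ t : Q} (hσ : orderOf σ = a) (hρ : orderOf ρ = b) (hc : Commute σ ρ) {n m : ℕ}
    (ht : t * σ * t⁻¹ = σ ^ n) (ht' : t * ρ * t⁻¹ = ρ ^ m) :
    ∃ (P R : Subgroup Γ) (g : Γ), IsPGroup a P ∧ IsPGroup b R ∧ (∀ y ∈ P, ∀ z ∈ R, z * y = y * z) ∧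
      (∀ y ∈ P, g * y * g⁻¹ ∈ P) ∧ (∀ z ∈ R, g * z * g⁻¹ ∈ R) ∧ (∃ y ∈ P, π y = σ) ∧ (∃ z ∈ R, π z = ρ) ∧
      π g * σ * (π g)⁻¹ = σ ^ n ∧ π g * ρ * (π g)⁻¹ = ρ ^ m := by
  have hb : b.Prime := Fact.out
  set U := (Subgroup.zpowers σ).comap π with hU
  let P₀ : Sylow a U := default
  set P := (P₀ : Subgroup U).map U.subtype
  obtain ⟨x, hx⟩ := hπ t
  obtain ⟨u, hu, hnorm⟩ := exists_adjust (x := x) (fun u hu => by
    rw [hU, Subgroup.mem_comap, map_mul, map_mul, map_inv, hx]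
    exact conj_zpowers (n := n) (by rw [ht, zpow_natCast]) _ hu) P₀
  obtain ⟨r₀, hr₀⟩ := hπ ρ
  obtain ⟨v, hv, hnormr⟩ := exists_adjust (x := r₀) (fun u hu => by
    rw [hU, Subgroup.mem_comap, map_mul, map_mul, map_inv, hr₀]
    exact conj_zpowers (n := 1) (by rw [zpow_one, hc.symm.eq, mul_inv_cancel_right]) _ hu) P₀
  obtain ⟨i, hi⟩ := Subgroup.mem_zpowers_iff.1 (show π v ∈ Subgroup.zpowers σ from hv)
  obtain ⟨j, hj⟩ := Subgroup.mem_zpowers_iff.1 (show π u ∈ Subgroup.zpowers σ from hu)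
  set V := Subgroup.centralizer (P : Set Γ) ⊓ (Subgroup.zpowers ρ).comap π with hV
  set g₁ := u * x with hg₁
  have hg1σ : π g₁ * σ * (π g₁)⁻¹ = σ ^ n := by
    rw [hg₁, map_mul, hx, ← hj, show σ ^ j * t * σ * (σ ^ j * t)⁻¹ = σ ^ j * (t * σ * t⁻¹) * σ ^ (-j) by group,
      ht]
    group
  have hg1ρ : π g₁ * ρ * (π g₁)⁻¹ = ρ ^ m := by
    rw [hg₁, map_mul, hx, ← hj, show σ ^ j * t * ρ * (σ ^ j * t)⁻¹ = σ ^ j * (t * ρ * t⁻¹) * (σ ^ j)⁻¹ by group,
      ht', ((hc.zpow_left j).pow_right m).eq]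
    group
  have hgV : ∀ w ∈ V, g₁ * w * g₁⁻¹ ∈ V := by
    intro w hw
    rw [hV, Subgroup.mem_inf] at hw ⊢
    refine ⟨Subgroup.mem_centralizer_iff.2 fun y hy => ?_, ?_⟩
    · -- `g₁` permutes `P`
      obtain ⟨y', hy', rfl⟩ : ∃ y' ∈ P, g₁ * y' * g₁⁻¹ = y := by
        have e : P.map (MulAut.conj g₁).toMonoidHom = P := by
          refine Subgroup.eq_of_le_of_card_ge ?_ (le_of_eq ?_)
          · rintro _ ⟨y', hy', rfl⟩; exact hnorm y' hy'
          · exact Nat.card_congr (P.equivMapOfInjective _ (MulAut.conj g₁).injective).toEquiv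
        have hy2 : y ∈ P := hy
        rw [← e] at hy2
        obtain ⟨y', hy', e'⟩ := hy2
        exact ⟨y', hy', e'⟩
      rw [conj_mul, conj_mul, Subgroup.mem_centralizer_iff.1 hw.1 y' hy']
    · rw [Subgroup.mem_comap, map_mul, map_mul, map_inv]
      exact conj_zpowers (n := m) (by rw [hg1ρ, zpow_natCast]) _ hw.2
  set w := (v * r₀) ^ (N * a) with hw
  have hwV : w ∈ V := by
    rw [hV, Subgroup.mem_inf]
    refine ⟨Subgroup.mem_centralizer_iff.2 fun y hy => ?_, ?_⟩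
    · rw [hw, pow_mul]
      exact (Commute.pow_left (hcen P (v * r₀) (P₀.isPGroup'.map _) hnormr y hy) a).eq.symm
    · rw [hw, Subgroup.mem_comap, map_pow, map_mul, hr₀, ← hi, (hc.zpow_left i).mul_pow,
        mul_comm N a, pow_mul (σ ^ i), ← zpow_natCast (σ ^ i), ← zpow_mul, mul_comm i, zpow_mul,
        zpow_natCast, ← hσ, pow_orderOf_eq_one, one_zpow, one_pow, one_mul]
      exact pow_mem (Subgroup.mem_zpowers ρ) _
  have hw1 : π w ≠ 1 := by
    rw [hw, map_pow, map_mul, hr₀, ← hi, (hc.zpow_left i).mul_pow,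
      mul_comm N a, pow_mul (σ ^ i), ← zpow_natCast (σ ^ i), ← zpow_mul, mul_comm i, zpow_mul,
      zpow_natCast, ← hσ, pow_orderOf_eq_one, one_zpow, one_pow, one_mul]
    intro h
    have := orderOf_dvd_of_pow_eq_one h
    rw [hρ, hσ] at this
    rcases hb.dvd_mul.1 this with h' | h'
    · exact hab ((Nat.prime_dvd_prime_iff_eq hb Fact.out).1 h').symm
    · exact hN h'
  let R₀ : Sylow b V := default
  obtain ⟨c, hcV, hnormR⟩ := exists_adjust (x := g₁) hgV R₀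
  obtain ⟨l, hl⟩ := Subgroup.mem_zpowers_iff.1 (show π c ∈ Subgroup.zpowers ρ from (Subgroup.mem_inf.1 hcV).2)
  refine ⟨P, (R₀ : Subgroup V).map V.subtype, c * g₁, P₀.isPGroup'.map _, R₀.isPGroup'.map _, ?_, ?_,
    hnormR, exists_lift π hσ (fun w hw => hw) (y := (hπ σ).choose)
      (by rw [hU, Subgroup.mem_comap, (hπ σ).choose_spec]; exact Subgroup.mem_zpowers σ)
      (by rw [(hπ σ).choose_spec]; intro h; rw [h, orderOf_one] at hσ; exact (Fact.out : a.Prime).ne_one hσ.symm) P₀,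
    exists_lift π hρ (fun w hw => (Subgroup.mem_inf.1 hw).2) hwV hw1 R₀, ?_, ?_⟩
  · rintro y hy _ ⟨z, -, rfl⟩
    exact (Subgroup.mem_centralizer_iff.1 (Subgroup.mem_inf.1 z.2).1 y hy).symm
  · intro y hy
    have h := hnorm y hy
    have e := Subgroup.mem_centralizer_iff.1 (Subgroup.mem_inf.1 hcV).1 _ h
    rw [show c * g₁ * y * (c * g₁)⁻¹ = c * (g₁ * y * g₁⁻¹) * c⁻¹ by group, ← e, mul_inv_cancel_right]
    exact h
  · rw [map_mul, show π c * π g₁ * σ * (π c * π g₁)⁻¹ = π c * (π g₁ * σ * (π g₁)⁻¹) * (π c)⁻¹ by group,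
      hg1σ, ← hl, ((hc.symm.zpow_left l).pow_right n).eq, mul_inv_cancel_right]
  · rw [map_mul, show π c * π g₁ * ρ * (π c * π g₁)⁻¹ = π c * (π g₁ * ρ * (π g₁)⁻¹) * (π c)⁻¹ by group,
      hg1ρ, ← hl]
    group

/-- A section containing `A_m` when it is `A_r` with `m ≤ r`. -/
theorem exists_restrict {G : Type*} [Group G] {H : Subgroup G} {K : Subgroup ↥H} [K.Normal] {r m : ℕ}
    (h : Nonempty (↥H ⧸ K ≃* ↥(alternatingGroup (Fin r)))) (hm : m ≤ r) :
    ∃ (H' : Subgroup G) (π : ↥H' →* ↥(alternatingGroup (Fin m))), Function.Surjective π := by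
  classical
  obtain ⟨e⟩ := h
  set π₀ := e.toMonoidHom.comp (QuotientGroup.mk' K)
  have hπ₀ : Function.Surjective π₀ := e.surjective.comp (QuotientGroup.mk'_surjective K)
  let p : Fin r → Prop := fun i => (i : ℕ) < m
  let f : Fin m ≃ Subtype p :=
    { toFun := fun i => ⟨Fin.castLE hm i, i.2⟩
      invFun := fun i => ⟨i.1, i.2⟩
      left_inv := fun i => rfl
      right_inv := fun i => rfl }
  let j : Equiv.Perm (Fin m) →* Equiv.Perm (Fin r) := Equiv.Perm.extendDomainHom f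
  have hj : Function.Injective j := Equiv.Perm.extendDomainHom_injective f
  have hsign : ∀ σ, Equiv.Perm.sign (j σ) = Equiv.Perm.sign σ := fun σ => Equiv.Perm.sign_extendDomain σ f
  let ja : ↥(alternatingGroup (Fin m)) →* ↥(alternatingGroup (Fin r)) :=
    (j.comp (alternatingGroup (Fin m)).subtype).codRestrict _ fun σ => by
      rw [Equiv.Perm.mem_alternatingGroup]
      exact (hsign _).trans (Equiv.Perm.mem_alternatingGroup.1 σ.2)
  have hja : Function.Injective ja := fun a b e => Subtype.ext (hj (congrArg Subtype.val e))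
  let S : Subgroup H := ja.range.comap π₀
  let π₁ : S →* ja.range := (π₀.comp S.subtype).codRestrict _ fun s => s.2
  have hπ₁ : Function.Surjective π₁ := fun y => by
    obtain ⟨x, hx⟩ := hπ₀ y.1
    exact ⟨⟨x, show π₀ x ∈ ja.range by rw [hx]; exact y.2⟩, Subtype.ext hx⟩
  let e1 : ↥(S.map H.subtype) ≃* S := (S.equivMapOfInjective H.subtype H.subtype_injective).symm
  exact ⟨S.map H.subtype, (MonoidHom.ofInjective hja).symm.toMonoidHom.comp (π₁.comp e1.toMonoidHom),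
    (MonoidHom.ofInjective hja).symm.surjective.comp (hπ₁.comp e1.surjective)⟩

end Cfsg.Agent.AltAuto
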