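import Cfsg.Agent.Lib.AltAuto.Lift
import Mathlib.GroupTheory.Perm.Fin
import Mathlib.Tactic.NormNum.Prime
import Mathlib.Tactic.Linarith
import Mathlib.Tactic.Ring

/-! An abelian Sylow subgroup over an elementary group of order nine inside `A₈`. -/

set_option autoImplicit false
set_option maxRecDepth 20000

namespace Cfsg.Agent.AltAuto.Pair3

/-- An even permutation from two mutually inverse tables. -/
def ev (f f' : Fin 8 → Fin 8) (h : ∀ i, f' (f i) = i ∧ f (f' i) = i)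
    (hs : Equiv.Perm.sign (⟨f, f', fun i => (h i).1, fun i => (h i).2⟩ : Equiv.Perm (Fin 8)) = 1) :
    ↥(alternatingGroup (Fin 8)) :=
  ⟨⟨f, f', fun i => (h i).1, fun i => (h i).2⟩, Equiv.Perm.mem_alternatingGroup.2 hs⟩

/-- First three-cycle. -/
def x3 : ↥(alternatingGroup (Fin 8)) :=
  ev ![1, 2, 0, 3, 4, 5, 6, 7] ![2, 0, 1, 3, 4, 5, 6, 7] (by decide) (by decide +kernel)

/-- Second three-cycle. -/
def y3 : ↥(alternatingGroup (Fin 8)) :=
  ev ![0, 1, 2, 4, 5, 3, 6, 7] ![0, 1, 2, 5, 3, 4, 6, 7] (by decide) (by decide +kernel)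

/-- An element mapping the first cycle to the second and the second to the inverse of the first. -/
def t3 : ↥(alternatingGroup (Fin 8)) :=
  ev ![3, 4, 5, 0, 2, 1, 6, 7] ![3, 5, 4, 0, 1, 2, 6, 7] (by decide) (by decide +kernel)

/-- A five-cycle away from the first three-cycle. -/
def a5 : ↥(alternatingGroup (Fin 8)) :=
  ev ![0, 1, 2, 4, 5, 6, 7, 3] ![0, 1, 2, 7, 3, 4, 5, 6] (by decide) (by decide +kernel)

/-- Another three-cycle. -/
def c3 : ↥(alternatingGroup (Fin 8)) :=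
  ev ![0, 1, 2, 3, 4, 7, 5, 6] ![0, 1, 2, 3, 4, 6, 7, 5] (by decide) (by decide +kernel)

theorem x3_cube : x3 ^ 3 = 1 := by decide +kernel
theorem y3_cube : y3 ^ 3 = 1 := by decide +kernel
theorem a5_five : a5 ^ 5 = 1 := by decide +kernel
theorem x3_ne : x3 ≠ 1 := by decide +kernel
theorem a5_ne : a5 ≠ 1 := by decide +kernel
theorem comm_xy : x3 * y3 = y3 * x3 := by decide +kernel
theorem comm_xa : x3 * a5 = a5 * x3 := by decide +kernel
theorem comm_xc : x3 * c3 = c3 * x3 := by decide +kernel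
theorem conj_x : t3 * x3 * t3⁻¹ = y3 := by decide +kernel
theorem conj_y : t3 * y3 * t3⁻¹ = x3⁻¹ := by decide +kernel
theorem y3_word : a5 ^ 4 * (c3 * a5 ^ 3 * c3⁻¹) = y3 := by decide +kernel

theorem moved : ∀ i j : Fin 3, (i ≠ 0 ∨ j ≠ 0) → ∀ k : Fin 3,
    t3 * (x3 ^ (i : ℕ) * y3 ^ (j : ℕ)) * t3⁻¹ ≠ (x3 ^ (i : ℕ) * y3 ^ (j : ℕ)) ^ (k : ℕ) := by
  decide +kernel

theorem nine_inj : ∀ i j i' j' : Fin 3,
    x3 ^ (i : ℕ) * y3 ^ (j : ℕ) = x3 ^ (i' : ℕ) * y3 ^ (j' : ℕ) → i = i' ∧ j = j' := by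
  decide +kernel

theorem y3_not_mem : y3 ∉ Subgroup.zpowers x3 := by
  rintro ⟨l, hl⟩
  have h : x3 ^ ((l % 3).toNat) * y3 ^ 0 = x3 ^ 0 * y3 ^ 1 := by
    rw [pow_zero, mul_one, pow_zero, one_mul, pow_one, ← hl, ← zpow_natCast,
      Int.toNat_of_nonneg (Int.emod_nonneg _ (by norm_num))]
    exact (zpow_eq_zpow_emod' l x3_cube).symm
  exact absurd (nine_inj ⟨(l % 3).toNat, by omega⟩ 0 0 1 h).2 (by decide)

/-- The group of order nine. -/
def E9 : Subgroup ↥(alternatingGroup (Fin 8)) := Subgroup.zpowers x3 ⊔ Subgroup.zpowers y3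

theorem mem_E9 {w : ↥(alternatingGroup (Fin 8))} (hw : w ∈ E9) :
    ∃ i j : Fin 3, w = x3 ^ (i : ℕ) * y3 ^ (j : ℕ) := by
  have hn : Subgroup.zpowers x3 ≤ Subgroup.normalizer (Subgroup.zpowers y3 : Set _) := by
    rw [Subgroup.zpowers_le]
    refine Subgroup.mem_normalizer_iff.2 fun v => ?_
    have hconj : ∀ k : ℤ, x3 * y3 ^ k * x3⁻¹ = y3 ^ k := fun k => by
      rw [(show Commute x3 y3 from comm_xy).zpow_right k, mul_inv_cancel_right]
    constructor
    · rintro ⟨k, rfl⟩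
      exact ⟨k, (hconj k).symm⟩
    · rintro ⟨k, hk⟩
      refine ⟨k, ?_⟩
      have e : x3 * y3 ^ k * x3⁻¹ = x3 * v * x3⁻¹ := (hconj k).trans hk
      exact mul_left_cancel (mul_right_cancel e)
  rw [E9, sup_comm] at hw
  obtain ⟨b, hb, a, ha, rfl⟩ : ∃ b ∈ Subgroup.zpowers y3, ∃ a ∈ Subgroup.zpowers x3, b * a = w := by
    rw [← SetLike.mem_coe, Subgroup.coe_mul_of_right_le_normalizer_left _ _ hn] at hw
    exact Set.mem_mul.1 hw
  obtain ⟨k, rfl⟩ := Subgroup.mem_zpowers_iff.1 hb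
  obtain ⟨l, rfl⟩ := Subgroup.mem_zpowers_iff.1 ha
  refine ⟨⟨(l % 3).toNat, by omega⟩, ⟨(k % 3).toNat, by omega⟩, ?_⟩
  rw [((show Commute x3 y3 from comm_xy).zpow_zpow l k).symm.eq]
  have hx : x3 ^ l = x3 ^ (l % 3).toNat := by
    rw [← zpow_natCast, Int.toNat_of_nonneg (Int.emod_nonneg _ (by norm_num))]
    exact zpow_eq_zpow_emod' l x3_cube
  have hy : y3 ^ k = y3 ^ (k % 3).toNat := by
    rw [← zpow_natCast, Int.toNat_of_nonneg (Int.emod_nonneg _ (by norm_num))]
    exact zpow_eq_zpow_emod' k y3_cube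
  rw [hx, hy]

theorem x3_mem : x3 ∈ E9 := Subgroup.mem_sup_left (Subgroup.mem_zpowers _)

theorem y3_mem : y3 ∈ E9 := Subgroup.mem_sup_right (Subgroup.mem_zpowers _)

theorem t3_norm : ∀ w ∈ E9, t3 * w * t3⁻¹ ∈ E9 := by
  intro w hw
  obtain ⟨i, j, rfl⟩ := mem_E9 hw
  rw [← conj_mul, ← conj_pow, ← conj_pow, conj_x, conj_y]
  exact mul_mem (pow_mem y3_mem _) (pow_mem (inv_mem x3_mem) _)

theorem conj_coset {e : ↥(alternatingGroup (Fin 8))} (he : e ∈ E9) :
    e * t3 * x3 * (e * t3)⁻¹ = y3 ∧ e * t3 * y3 * (e * t3)⁻¹ = x3⁻¹ := by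
  obtain ⟨i, j, rfl⟩ := mem_E9 he
  have h : Commute x3 y3 := comm_xy
  have hex : Commute (x3 ^ (i : ℕ) * y3 ^ (j : ℕ)) x3 :=
    ((Commute.refl x3).pow_left _).mul_left (h.symm.pow_left _)
  have hey : Commute (x3 ^ (i : ℕ) * y3 ^ (j : ℕ)) y3 :=
    (h.pow_left _).mul_left ((Commute.refl y3).pow_left _)
  constructor
  · rw [show ∀ a b v : ↥(alternatingGroup (Fin 8)), a * b * v * (a * b)⁻¹ = a * (b * v * b⁻¹) * a⁻¹
      from fun a b v => by group, conj_x, hey.eq, mul_inv_cancel_right]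
  · rw [show ∀ a b v : ↥(alternatingGroup (Fin 8)), a * b * v * (a * b)⁻¹ = a * (b * v * b⁻¹) * a⁻¹
      from fun a b v => by group, conj_y, hex.inv_right.eq, mul_inv_cancel_right]

variable {Γ : Type*} [Group Γ] [Finite Γ]

/-- Elements of prime power order with prescribed image. -/
theorem exists_primary {Q : Type*} [Group Q] (f : Γ →* Q) {a : ℕ} [Fact a.Prime] {g : Γ}
    (h : orderOf (f g) = a) :
    ∃ m : ℕ, ∃ k : ℕ, orderOf (g ^ m) = a ^ k ∧ f (g ^ m) = f g := by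
  have ha : a.Prime := Fact.out
  obtain ⟨k, m, hm, hkm⟩ := Nat.exists_eq_pow_mul_and_not_dvd (orderOf_pos g).ne' a ha.ne_one
  obtain ⟨j, -, hj⟩ := Nat.exists_mul_mod_eq_one_of_coprime ((ha.coprime_iff_not_dvd.2 hm).symm) ha.one_lt
  have hdvd : orderOf (g ^ (m * j)) ∣ a ^ k := by
    refine orderOf_dvd_of_pow_eq_one ?_
    rw [← pow_mul, mul_comm, ← mul_assoc, ← hkm, pow_mul, pow_orderOf_eq_one, one_pow]
  obtain ⟨l, -, hl⟩ := (Nat.dvd_prime_pow ha).1 hdvd
  refine ⟨m * j, l, hl, ?_⟩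
  conv_lhs => rw [map_pow, ← Nat.mod_add_div (m * j) a, hj, pow_add, pow_mul, pow_one, ← h,
    pow_orderOf_eq_one, one_pow, mul_one]

variable {π : Γ →* ↥(alternatingGroup (Fin 8))}

/-- The Sylow subgroup. -/
theorem exists_abelian (hπ : Function.Surjective π)
    (h5 : ∀ X : Subgroup Γ, IsPGroup 3 X → ¬ 5 ∣ Nat.card (MulAut X))
    (hab : ∀ X : Subgroup Γ, IsPGroup 3 X → 3 < Nat.card (Subgroup.center X) →
      ∀ a ∈ X, ∀ b ∈ X, a * b = b * a) :
    ∃ (P : Subgroup Γ) (g : Γ), IsPGroup 3 P ∧ (∀ a ∈ P, ∀ b ∈ P, a * b = b * a) ∧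
      (∀ a ∈ P, g * a * g⁻¹ ∈ P) ∧ (∀ a ∈ P, π a ∈ E9) ∧ (∀ w ∈ E9, ∃ a ∈ P, π a = w) ∧
      ∃ e ∈ E9, π g = e * t3 := by
  classical
  haveI : Fact (Nat.Prime 3) := ⟨by norm_num⟩
  haveI : Fact (Nat.Prime 5) := ⟨by norm_num⟩
  set U := E9.comap π with hU
  set U2 := (Subgroup.zpowers x3).comap π with hU2
  have hox : orderOf x3 = 3 := orderOf_eq_prime x3_cube x3_ne
  have hle : U2 ≤ U := Subgroup.comap_mono le_sup_left
  let X₀ : Sylow 3 U2 := default
  set X := (X₀ : Subgroup U2).map U2.subtype with hX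
  have hX3 : IsPGroup 3 X := X₀.isPGroup'.map _
  have hXU2 : X ≤ U2 := by rintro _ ⟨v, -, rfl⟩; exact v.2
  obtain ⟨u₀, hu₀⟩ := hπ x3
  obtain ⟨x', hx'X, hx'⟩ := exists_lift π hox (fun w hw => hw)
    (show u₀ ∈ U2 by rw [hU2, Subgroup.mem_comap, hu₀]; exact Subgroup.mem_zpowers _)
    (by rw [hu₀]; exact x3_ne) X₀
  -- lifts of permutations commuting with the first cycle normalise `X` after a translation
  have hnorm : ∀ s, x3 * s = s * x3 → ∃ γ, (∀ v ∈ X, γ * v * γ⁻¹ ∈ X) ∧ π γ = s := by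
    intro s hs
    obtain ⟨γ, hγ⟩ := hπ s
    obtain ⟨u, hu, hn⟩ := exists_adjust (x := γ) (U := U2) (fun v hv => by
      rw [hU2, Subgroup.mem_comap, map_mul, map_mul, map_inv, hγ]
      exact conj_zpowers (n := 1) (by rw [zpow_one, ← hs, mul_inv_cancel_right]) _ hv) X₀
    obtain ⟨i, hi⟩ := Subgroup.mem_zpowers_iff.1 (show π u ∈ Subgroup.zpowers x3 from hu)
    refine ⟨x' ^ (-i) * (u * γ), fun v hv => ?_, ?_⟩
    · rw [show x' ^ (-i) * (u * γ) * v * (x' ^ (-i) * (u * γ))⁻¹ =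
        x' ^ (-i) * (u * γ * v * (u * γ)⁻¹) * (x' ^ (-i))⁻¹ by group]
      exact mul_mem (mul_mem (zpow_mem hx'X _) (hn v hv)) (inv_mem (zpow_mem hx'X _))
    · rw [map_mul, map_mul, map_zpow, hx', hγ, ← hi, ← mul_assoc, ← _root_.zpow_add, neg_add_cancel,
        zpow_zero, one_mul]
  -- an element centralising `X` over the five-cycle
  obtain ⟨γa, hγa, hπa⟩ := hnorm a5 comm_xa
  obtain ⟨m, k, hm, hma⟩ := exists_primary π (a := 5) (g := γa)
    (by rw [hπa]; exact orderOf_eq_prime a5_five a5_ne)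
  set w := γa ^ m with hw
  have hwn : ∀ v ∈ X, w * v * w⁻¹ ∈ X := fun v hv => by
    rw [hw]; clear hm hma hw w
    induction m with
    | zero => simpa
    | succ n ih =>
      rw [pow_succ', show γa * γa ^ n * v * (γa * γa ^ n)⁻¹ = γa * (γa ^ n * v * (γa ^ n)⁻¹) * γa⁻¹ by group]
      exact hγa _ ih
  have hwN : w ∈ Subgroup.normalizer (X : Set Γ) := by
    refine Subgroup.mem_normalizer_iff.2 fun v => ⟨hwn v, fun hv => ?_⟩
    have e : X.map (MulAut.conj w).toMonoidHom = X := by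
      refine Subgroup.eq_of_le_of_card_ge ?_ (le_of_eq ?_)
      · rintro _ ⟨y', hy', rfl⟩; exact hwn y' hy'
      · exact Nat.card_congr (X.equivMapOfInjective _ (MulAut.conj w).injective).toEquiv
    have hv2 : w * v * w⁻¹ ∈ X := hv
    rw [← e] at hv2
    obtain ⟨y', hy', e'⟩ := hv2
    exact (mul_left_cancel (mul_right_cancel (b := w⁻¹) (show w * y' * w⁻¹ = w * v * w⁻¹ from e'))) ▸ hy'
  let α := X.normalizerMonoidHom ⟨w, hwN⟩
  have hα : α = 1 := by
    have h1 : orderOf α ∣ 5 ^ k := by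
      refine (orderOf_map_dvd _ _).trans ?_
      rw [Subgroup.orderOf_mk, hm]
    obtain ⟨l, -, hl⟩ := (Nat.dvd_prime_pow (by norm_num : Nat.Prime 5)).1 h1
    rcases Nat.eq_zero_or_pos l with rfl | hl'
    · rwa [pow_zero, orderOf_eq_one_iff] at hl
    · exact absurd ((dvd_pow_self 5 hl'.ne').trans (hl ▸ orderOf_dvd_natCard α)) (h5 X hX3)
  set C := Subgroup.centralizer (X : Set Γ) with hC
  have hwC : w ∈ C := Subgroup.mem_centralizer_iff.2 fun v hv => by
    have := congrArg (fun f : MulAut X => ((f ⟨v, hv⟩ : X) : Γ)) hα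
    have e : w * v * w⁻¹ = v := this
    exact (mul_inv_eq_iff_eq_mul.1 e).symm
  obtain ⟨γc, hγc, hπc⟩ := hnorm c3 comm_xc
  have hcC : γc * w ^ 3 * γc⁻¹ ∈ C := by
    have hCn : ∀ v ∈ C, γc * v * γc⁻¹ ∈ C := by
      intro v hv
      refine Subgroup.mem_centralizer_iff.2 fun y hy => ?_
      have e : X.map (MulAut.conj γc).toMonoidHom = X := by
        refine Subgroup.eq_of_le_of_card_ge ?_ (le_of_eq ?_)
        · rintro _ ⟨y', hy', rfl⟩; exact hγc y' hy'
        · exact Nat.card_congr (X.equivMapOfInjective _ (MulAut.conj γc).injective).toEquiv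
      have hy2 : y ∈ X := hy
      rw [← e] at hy2
      obtain ⟨y', hy', e'⟩ := hy2
      rw [← e']
      show γc * y' * γc⁻¹ * (γc * v * γc⁻¹) = γc * v * γc⁻¹ * (γc * y' * γc⁻¹)
      rw [conj_mul, conj_mul, Subgroup.mem_centralizer_iff.1 hv y' hy']
    exact hCn _ (pow_mem hwC 3)
  set z₀ := w ^ 4 * (γc * w ^ 3 * γc⁻¹) with hz₀
  have hz₀π : π z₀ = y3 := by
    rw [hz₀, map_mul, map_mul, map_mul, map_inv, map_pow π w, map_pow π w, hma, hπa, hπc, y3_word]
  obtain ⟨m', k', hm', hmz⟩ := exists_primary π (a := 3) (g := z₀)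
    (by rw [hz₀π]; exact orderOf_eq_prime y3_cube (by decide +kernel))
  set z := z₀ ^ m' with hz
  rw [hz₀π] at hmz
  have hzC : z ∈ C := pow_mem (mul_mem (pow_mem hwC 4) hcC) m'
  have hzU : z ∈ U := by rw [hU, Subgroup.mem_comap, hmz]; exact y3_mem
  -- the group generated by `X` and `z`
  set Y := X ⊔ Subgroup.zpowers z with hY
  have hYU : Y ≤ U := sup_le (hXU2.trans hle) (Subgroup.zpowers_le.2 hzU)
  have hzpC : Subgroup.zpowers z ≤ C := Subgroup.zpowers_le.2 hzC
  have hYn : Subgroup.zpowers z ≤ Subgroup.normalizer (X : Set Γ) :=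
    hzpC.trans fun c hc => Subgroup.mem_normalizer_iff.2 fun v => by
      constructor
      · intro hv
        rwa [← Subgroup.mem_centralizer_iff.1 hc v hv, mul_inv_cancel_right]
      · intro hv
        have := Subgroup.mem_centralizer_iff.1 hc _ hv
        have e : c * v * c⁻¹ = v := by
          calc c * v * c⁻¹ = c⁻¹ * (c * (c * v * c⁻¹)) := by group
            _ = c⁻¹ * (c * v * c⁻¹ * c) := by rw [this]
            _ = v := by group
        rwa [e] at hv
  have hz3 : IsPGroup 3 (Subgroup.zpowers z) := IsPGroup.of_card (n := k') (by rw [Nat.card_zpowers, hm'])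
  have hY3 : IsPGroup 3 Y := IsPGroup.to_sup_of_normal_left' hX3 hz3 hYn
  -- its index in `U`
  obtain ⟨hidx⟩ : Nonempty (¬ 3 ∣ (Y.subgroupOf U).index) := by
    refine ⟨fun hdvd => ?_⟩
    have hcU : Nat.card U = 3 * Nat.card U2 := by
      have h1 : ∀ Z : Subgroup ↥(alternatingGroup (Fin 8)), Nat.card (Z.comap π) = Nat.card π.ker * Nat.card Z := by
        intro Z
        let f : Z.comap π →* Z := (π.comp (Z.comap π).subtype).codRestrict Z fun v => v.2
        have hf : Function.Surjective f := fun v => by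
          obtain ⟨v', hv'⟩ := hπ v
          exact ⟨⟨v', show π v' ∈ Z by rw [hv']; exact v.2⟩, Subtype.ext hv'⟩
        have hk : f.ker = π.ker.subgroupOf (Z.comap π) := by
          ext v
          rw [MonoidHom.mem_ker, Subgroup.mem_subgroupOf, MonoidHom.mem_ker, Subtype.ext_iff]
          rfl
        rw [← f.ker.card_mul_index, Subgroup.index_ker, MonoidHom.range_eq_top.2 hf,
          Subgroup.card_top, hk]
        congr 1
        exact Nat.card_congr (Subgroup.subgroupOfEquivOfLe fun v hv => by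
          rw [Subgroup.mem_comap, MonoidHom.mem_ker.1 hv]; exact one_mem _).toEquiv
      have h9 : Nat.card E9 = 9 := by
        let f : Fin 3 × Fin 3 → E9 := fun p =>
          ⟨x3 ^ (p.1 : ℕ) * y3 ^ (p.2 : ℕ), mul_mem (pow_mem x3_mem _) (pow_mem y3_mem _)⟩
        rw [← Nat.card_eq_of_bijective f ⟨fun p q e => by
          obtain ⟨h, h'⟩ := nine_inj _ _ _ _ (congrArg Subtype.val e)
          exact Prod.ext h h', fun v => by
          obtain ⟨i, j, e⟩ := mem_E9 v.2
          exact ⟨(i, j), Subtype.ext e.symm⟩⟩]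
        simp
      rw [hU, hU2, h1, h1, h9, Nat.card_zpowers, hox]
      ring
    have hcY := (Y.subgroupOf U).card_mul_index
    rw [Nat.card_congr (Subgroup.subgroupOfEquivOfLe hYU).toEquiv, hcU] at hcY
    have hcX := (X₀ : Subgroup U2).card_mul_index
    have hlt : 3 * Nat.card X ∣ Nat.card Y := by
      obtain ⟨i, hi⟩ := IsPGroup.iff_card.1 hX3
      obtain ⟨j, hj⟩ := IsPGroup.iff_card.1 hY3
      have hne : Nat.card X < Nat.card Y := by
        refine lt_of_le_of_ne (Subgroup.card_le_of_le le_sup_left) fun e => ?_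
        have : X = Y := Subgroup.eq_of_le_of_card_ge le_sup_left e.ge
        have hzX : z ∈ U2 := hXU2 (this ▸ Subgroup.mem_sup_right (Subgroup.mem_zpowers z))
        rw [hU2, Subgroup.mem_comap, hmz] at hzX
        exact y3_not_mem hzX
      rw [hi, hj] at hne ⊢
      rw [← pow_succ']
      exact pow_dvd_pow 3 ((Nat.pow_lt_pow_iff_right (by norm_num)).1 hne)
    obtain ⟨d, hd⟩ := hlt
    obtain ⟨e, he⟩ := hdvd
    have hnot : ¬ 3 ∣ (X₀ : Subgroup U2).index := X₀.not_dvd_index' fun h0 => Subgroup.index_ne_zero_of_finite h0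
    refine hnot ⟨d * e, ?_⟩
    have hXc : Nat.card X = Nat.card (X₀ : Subgroup U2) :=
      (Nat.card_congr ((X₀ : Subgroup U2).equivMapOfInjective _ U2.subtype_injective).toEquiv).symm
    rw [hd, he, ← hcX, ← hXc] at hcY
    exact (Nat.eq_of_mul_eq_mul_left (Nat.mul_pos (by norm_num : 0 < 3) (Nat.card_pos (α := X)))
      (by linarith : 3 * Nat.card X * (X₀ : Subgroup U2).index = 3 * Nat.card X * (3 * (d * e)))) 
  let P₀ : Sylow 3 U := (hY3.comap_of_injective U.subtype U.subtype_injective).toSylow hidx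
  obtain ⟨xt, hxt⟩ := hπ t3
  obtain ⟨u, hu, hn⟩ := exists_adjust (x := xt) (U := U) (fun v hv => by
    rw [hU, Subgroup.mem_comap, map_mul, map_mul, map_inv, hxt]
    exact t3_norm _ hv) P₀
  have hP₀ : (P₀ : Subgroup U).map U.subtype = Y := Subgroup.map_subgroupOf_eq_of_le hYU
  rw [hP₀] at hn
  have hYc : ∀ a ∈ Y, ∀ b ∈ Y, a * b = b * a := by
    refine hab Y hY3 ?_
    haveI : Nontrivial X := ⟨⟨⟨x', hx'X⟩, 1, fun e => x3_ne (by
      rw [← hx', show x' = 1 from congrArg Subtype.val e, map_one])⟩⟩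
    haveI := hX3.center_nontrivial
    have h1 : 1 < Nat.card (Subgroup.center X) := Finite.one_lt_card
    have h3 : 3 ≤ Nat.card (Subgroup.center X) := by
      obtain ⟨i, hi⟩ := IsPGroup.iff_card.1 (hX3.to_subgroup (Subgroup.center X))
      rw [hi] at h1 ⊢
      exact Nat.le_self_pow (fun h0 => by rw [h0, pow_zero] at h1; omega) 3
    let f : X →* Y := Subgroup.inclusion le_sup_left
    have hle' : (Subgroup.center X).map f ≤ Subgroup.center Y := by
      rintro _ ⟨c, hc, rfl⟩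
      refine Subgroup.mem_center_iff.2 fun v => Subtype.ext ?_
      have hall : Y ≤ Subgroup.centralizer {(c : Γ)} := by
        refine sup_le (fun a ha => Subgroup.mem_centralizer_iff.2 ?_)
          (Subgroup.zpowers_le.2 (Subgroup.mem_centralizer_iff.2 ?_))
        · rintro _ rfl
          exact (congrArg Subtype.val (Subgroup.mem_center_iff.1 hc ⟨a, ha⟩)).symm
        · rintro _ rfl
          exact Subgroup.mem_centralizer_iff.1 hzC c c.2
      exact (Subgroup.mem_centralizer_iff.1 (hall v.2) c rfl).symm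
    have hzc : (⟨z, Subgroup.mem_sup_right (Subgroup.mem_zpowers z)⟩ : Y) ∈ Subgroup.center Y := by
      refine Subgroup.mem_center_iff.2 fun v => Subtype.ext ?_
      have hall : Y ≤ Subgroup.centralizer {z} := by
        refine sup_le (fun a ha => Subgroup.mem_centralizer_iff.2 ?_)
          (Subgroup.zpowers_le.2 (Subgroup.mem_centralizer_iff.2 ?_))
        · rintro _ rfl
          exact (Subgroup.mem_centralizer_iff.1 hzC a ha).symm
        · rintro _ rfl; rfl
      exact (Subgroup.mem_centralizer_iff.1 (hall v.2) z rfl).symm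
    have hne : (Subgroup.center X).map f ≠ Subgroup.center Y := fun e => by
      rw [← e] at hzc
      obtain ⟨c, -, hc⟩ := hzc
      have hcz : (c : Γ) = z := congrArg Subtype.val hc
      have hy2 : π z ∈ Subgroup.zpowers x3 := hcz ▸ hXU2 c.2
      rw [hmz] at hy2
      exact y3_not_mem hy2
    have hlt : Nat.card ((Subgroup.center X).map f) < Nat.card (Subgroup.center Y) :=
      lt_of_le_of_ne (Subgroup.card_le_of_le hle') fun e => hne (Subgroup.eq_of_le_of_card_ge hle' e.ge)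
    rw [← Nat.card_congr ((Subgroup.center X).equivMapOfInjective f
      (Subgroup.inclusion_injective le_sup_left)).toEquiv] at hlt
    omega
  refine ⟨Y, u * xt, hY3, hYc, hn, fun a ha => hYU ha, fun v hv => ?_, π u, hu, by rw [map_mul, hxt]⟩
  obtain ⟨i, j, rfl⟩ := mem_E9 hv
  exact ⟨x' ^ (i : ℕ) * z ^ (j : ℕ), mul_mem (pow_mem (Subgroup.mem_sup_left hx'X) _)
    (pow_mem (Subgroup.mem_sup_right (Subgroup.mem_zpowers z)) _), by rw [map_mul, map_pow, map_pow, hx', hmz]⟩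

end Cfsg.Agent.AltAuto.Pair3
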